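import Cfsg.Agent.SP.NTh.D4.Abs_m3
import Mathlib
import Cfsg.Agent.H123.Cls.LCov
import Cfsg.Agent.LThreeMB.CoOneFin
import Cfsg.Agent.R2.H8.Mon.Ex_m3
import Cfsg.Agent.ConwayFacts.AutCo1
import Cfsg.Agent.H848.OctFacts_m3
import Cfsg.Agent.H848.Setup
import Cfsg.Agent.SP.NegS.Gen
import Cfsg.Agent.SP.Mon.Odd.Gen
import Cfsg.Agent.FastGrp
import Cfsg.Agent.Prune
set_option linter.all false

section
prune_inst 0x7f00000000000000000000000000000000000000000000000000000000000000000000000000000000000000000000000000000000000000000000000000000000000000000000000000000000000000003fffffffffffffffffffffffffffbeffbdffffffff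

-- part: SP/Pos/D/LyChk2
section
set_option linter.all false
open scoped Cfsg.Agent.FastGrp

/-! # S5755, the row of `Ly`: kernel checks, second level -/

set_option autoImplicit false

namespace Cfsg.Agent.SP.PosD.Lyons

theorem clos_ok : ctx (fun _ s => closB s Sm) = true := by
  rw [ctx_eq, ← closF_eq]
  decide +kernel
theorem lb0_ok : ctx (fun r s => lv2B r s Sm wb0 gb0 tb0 rb0) = true := by decide +kernel
theorem lb1_ok : ctx (fun r s => lv2B r s Sm wb1 gb1 tb1 rb1) = true := by decide +kernel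
theorem lb2_ok : ctx (fun r s => lv2B r s Sm wb2 gb2 tb2 rb2) = true := by decide +kernel
theorem lb3_ok : ctx (fun r s => lv2B r s Sm wb3 gb3 tb3 rb3) = true := by decide +kernel

end Cfsg.Agent.SP.PosD.Lyons
end

-- part: SP/Mon/Two/Lift
section
set_option linter.all false
open scoped Cfsg.Agent.FastGrp

-- part: SP/Mon/Two/Cnt
section
/-! # S5755, the Monster, 2-local subgroups: counting lemmas -/

set_option autoImplicit false

namespace Cfsg.Agent.SP.Mon.Two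

/-- **Double counting.** -/
theorem dc {A Ω : Type*} (Rel : A → Ω → Prop) {X : Set A} {Ob : Set Ω} (hX : X.Finite) (hO : Ob.Finite) {m f : ℕ}
    (h1 : ∀ ω ∈ Ob, m ≤ {a | a ∈ X ∧ Rel a ω}.ncard) (h2 : ∀ a ∈ X, {ω | ω ∈ Ob ∧ Rel a ω}.ncard ≤ f) :
    Ob.ncard * m ≤ X.ncard * f := by
  classical
  rw [Set.ncard_eq_toFinset_card _ hX, Set.ncard_eq_toFinset_card _ hO]
  refine Finset.card_mul_le_card_mul (fun ω a => Rel a ω) (fun ω hω => ?_) (fun a ha => ?_)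
  · refine (h1 ω (hO.mem_toFinset.1 hω)).trans (le_of_eq ?_)
    rw [← Set.ncard_coe_finset]
    congr 1
    ext a
    simp [Finset.bipartiteAbove]
  · refine le_trans (le_of_eq ?_) (h2 a (hX.mem_toFinset.1 ha))
    rw [← Set.ncard_coe_finset]
    congr 1
    ext a
    simp [Finset.bipartiteBelow]

/-- **Covering.** -/
theorem cov {A Ω : Type*} (Rel : A → Ω → Prop) {X : Set A} {P : Set Ω} (hX : X.Finite) (hP : P.Finite) {f : ℕ}
    (h1 : ∀ a ∈ X, ∃ ω ∈ P, Rel a ω) (h2 : ∀ ω ∈ P, {a | a ∈ X ∧ Rel a ω}.ncard ≤ f) : X.ncard ≤ P.ncard * f := by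
  have := dc (fun ω a => Rel a ω) hP hX (m := 1) (f := f) (fun a ha => ?_) h2
  · rwa [mul_one] at this
  · obtain ⟨ω, h3, h4⟩ := h1 a ha
    exact (Set.ncard_pos (hP.subset fun _ h => h.1)).2 ⟨ω, h3, h4⟩

/-- **Fibres.** -/
theorem fib_le {A Ω : Type*} (φ : A → Ω) {X : Set A} {P : Set Ω} (hX : X.Finite) (hP : P.Finite) {f : ℕ}
    (h1 : ∀ a ∈ X, φ a ∈ P) (h2 : ∀ ω ∈ P, {a | a ∈ X ∧ φ a = ω}.ncard ≤ f) : X.ncard ≤ P.ncard * f :=
  cov (fun a ω => φ a = ω) hX hP (fun a ha => ⟨_, h1 a ha, rfl⟩) h2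

theorem ncard_le_of_inj {A B : Type*} (φ : A → B) {X : Set A} {Y : Set B} (hY : Y.Finite) (h1 : ∀ a ∈ X, φ a ∈ Y)
    (h2 : ∀ a ∈ X, ∀ b ∈ X, φ a = φ b → a = b) : X.ncard ≤ Y.ncard :=
  Set.ncard_le_ncard_of_injOn φ h1 (fun a ha b hb h => h2 a ha b hb h) hY

theorem ncard_cases {A : Type*} {X Y Z : Set A} (hY : Y.Finite) (hZ : Z.Finite) (h : ∀ a ∈ X, a ∈ Y ∨ a ∈ Z) :
    X.ncard ≤ Y.ncard + Z.ncard :=
  (Set.ncard_le_ncard (t := Y ∪ Z) h (hY.union hZ)).trans (Set.ncard_union_le Y Z)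

section grp

variable {G : Type*} [Group G]

/-- conjugation of counted sets -/
theorem ncard_conj_le [Finite G] (k : G) {X Y : Set G} (h : ∀ x ∈ X, k⁻¹ * x * k ∈ Y) : X.ncard ≤ Y.ncard :=
  ncard_le_of_inj (fun x => k⁻¹ * x * k) (Set.toFinite _) h fun _ _ _ _ e => mul_left_cancel (mul_right_cancel e)

/-- **A fixed point** of an element of prime order on an invariant set. -/
theorem exists_fix [Finite G] {r : ℕ} (hr : r.Prime) {x : G} (hx : x ^ r = 1) {S : Set G}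
    (hS : ∀ a ∈ S, x * a * x⁻¹ ∈ S) (hn : ¬ r ∣ S.ncard) : ∃ a ∈ S, x * a = a * x := by
  classical
  have := Fact.mk hr
  have := Fintype.ofFinite S
  let f : S → S := fun a => ⟨x * a * x⁻¹, hS a a.2⟩
  have hf : Function.Injective f := fun a b e =>
    Subtype.ext (mul_left_cancel (mul_right_cancel (congrArg Subtype.val e)))
  let σ : Equiv.Perm S := Equiv.ofBijective f (Finite.injective_iff_bijective.1 hf)
  have hσ : ∀ (n : ℕ) (a : S), ((σ ^ n) a : G) = x ^ n * a * (x ^ n)⁻¹ := by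
    intro n
    induction n with
    | zero => intro a; simp
    | succ n ih =>
      intro a
      rw [pow_succ', Equiv.Perm.mul_apply]
      show x * ((σ ^ n) a : G) * x⁻¹ = _
      rw [ih, pow_succ']
      group
  obtain ⟨a, ha⟩ := Equiv.Perm.exists_fixed_point_of_prime (p := r) (n := 1) (σ := σ)
    (by rwa [← Nat.card_eq_fintype_card, Nat.card_coe_set_eq]) (by
      ext a
      rw [pow_one, hσ, hx]
      simp)
  exact ⟨a, a.2, mul_inv_eq_iff_eq_mul.1 (congrArg Subtype.val ha)⟩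

/-- an element of prime order `r` fixes every member of an invariant set with less than `r` elements -/
theorem fix_small [Finite G] {r : ℕ} (hr : r.Prime) {x : G} (hx : x ^ r = 1) {S : Set G}
    (hS : ∀ a ∈ S, x * a * x⁻¹ ∈ S) (hn : S.ncard < r) {a : G} (ha : a ∈ S) : x * a = a * x := by
  by_contra hne
  have h1 : 0 < {b | b ∈ S ∧ x * b ≠ b * x}.ncard := (Set.ncard_pos (Set.toFinite _)).2 ⟨a, ha, hne⟩
  have h2 : {b | b ∈ S ∧ x * b ≠ b * x}.ncard ≤ S.ncard := Set.ncard_le_ncard (fun _ h => h.1) (Set.toFinite _)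
  obtain ⟨b, hb, hc⟩ := exists_fix hr hx (S := {b | b ∈ S ∧ x * b ≠ b * x}) (fun b hb => ⟨hS b hb.1, fun e => hb.2 (by
    calc x * b = x⁻¹ * (x * (x * b * x⁻¹)) * x := by group
      _ = b * x := by rw [e]; group)⟩) (fun hd => absurd (Nat.le_of_dvd h1 hd) (by omega))
  exact hb.2 hc

theorem two_mul_card_le [Finite G] {H K : Subgroup G} (h : H ≤ K) {x : G} (hx : x ∈ K) (hx' : x ∉ H) :
    2 * Nat.card H ≤ Nat.card K := by
  obtain ⟨m, hm⟩ := Subgroup.card_dvd_of_le h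
  have h0 : 0 < Nat.card K := Nat.card_pos
  have h1 : m ≠ 1 := by
    rintro rfl
    exact hx' (Subgroup.eq_of_le_of_card_ge h (by omega) ▸ hx)
  have h2 : m ≠ 0 := by
    rintro rfl
    omega
  rw [hm, mul_comm]
  exact Nat.mul_le_mul_left _ (by omega)

/-- a coset-like set: all quotients lie in `K` -/
theorem ncard_le_of_quot [Finite G] {X : Set G} {K : Subgroup G} (h : ∀ a ∈ X, ∀ b ∈ X, a⁻¹ * b ∈ K) :
    X.ncard ≤ Nat.card K := by
  rcases X.eq_empty_or_nonempty with rfl | ⟨a, ha⟩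
  · simp
  · rw [← SetLike.coe_sort_coe, Nat.card_coe_set_eq]
    exact ncard_le_of_inj (fun b => a⁻¹ * b) (Set.toFinite _) (fun b hb => h a ha b hb)
      fun _ _ _ _ e => mul_left_cancel e

end grp

end Cfsg.Agent.SP.Mon.Two
end

-- part: H68/S8/Ex
section
/-!
# The exact centralizer orders of the 101 classes of `Co1` (helper68, S4908)
-/

set_option autoImplicit false
set_option maxRecDepth 1000000

namespace Cfsg.Agent.H68.S8

open Cfsg Cfsg.Agent.H123.Cls Cfsg.Agent.H123.Cls.CoD Cfsg.Agent.H68.CoMdl Cfsg.Agent.MonsterX.LaneLab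
  Cfsg.Agent.H264.TC.NoReal39

/-- covering and exactness -/
theorem exactG {G : Type*} [Group G] [Finite G] {ι : Type} [Fintype ι] (r : ι → G) (c : ι → ℕ)
    (hc : ∀ i, Nat.card ↥(Subgroup.centralizer {r i}) ≤ c i)
    (hne : ∀ i j, i ≠ j → ¬ IsConj (r i) (r j)) (hsum : Nat.card G ≤ ∑ i, Nat.card G / c i) :
    ∀ i, Nat.card ↥(Subgroup.centralizer {r i}) = c i := by
  classical
  let cl : ι → Set G := fun i => {x | IsConj (r i) x}
  have hG : ∀ i, Nat.card G = Nat.card ↥(Subgroup.centralizer {r i}) * (cl i).ncard := by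
    intro i
    let C : Subgroup G := Subgroup.centralizer {r i}
    have e2 : Nat.card (G ⧸ C) = (cl i).ncard := by
      rw [← Nat.card_coe_set_eq]
      refine Nat.card_congr (Equiv.ofBijective (fun q : G ⧸ C => Quotient.liftOn' q
        (fun a => (⟨a * r i * a⁻¹, isConj_iff.2 ⟨a, rfl⟩⟩ : cl i)) ?_) ⟨?_, ?_⟩)
      · intro a b hab
        rw [QuotientGroup.leftRel_apply] at hab
        have h2 : (a⁻¹ * b) * r i = r i * (a⁻¹ * b) := Subgroup.mem_centralizer_singleton_iff.1 hab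
        apply Subtype.ext
        change a * r i * a⁻¹ = b * r i * b⁻¹
        calc a * r i * a⁻¹ = a * (r i * (a⁻¹ * b)) * b⁻¹ := by group
          _ = a * (a⁻¹ * b * r i) * b⁻¹ := by rw [h2]
          _ = b * r i * b⁻¹ := by group
      · intro q q' h
        induction q using Quotient.inductionOn' with
        | h a =>
          induction q' using Quotient.inductionOn' with
          | h b =>
            have h2 : a * r i * a⁻¹ = b * r i * b⁻¹ := congrArg Subtype.val h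
            refine Quotient.sound' ?_
            rw [QuotientGroup.leftRel_apply]
            refine Subgroup.mem_centralizer_singleton_iff.2 ?_
            calc (a⁻¹ * b) * r i = a⁻¹ * (b * r i * b⁻¹) * b := by group
              _ = a⁻¹ * (a * r i * a⁻¹) * b := by rw [h2]
              _ = r i * (a⁻¹ * b) := by group
      · rintro ⟨x, hx⟩
        obtain ⟨a, rfl⟩ := isConj_iff.1 hx
        exact ⟨Quotient.mk'' a, rfl⟩
    rw [← e2, mul_comm]
    exact Subgroup.card_eq_card_quotient_mul_card_subgroup C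
  have hGp : 0 < Nat.card G := Nat.card_pos
  have hcl : ∀ i, Nat.card G / c i ≤ (cl i).ncard := by
    intro i
    have h0 : 0 < Nat.card ↥(Subgroup.centralizer {r i}) := Nat.card_pos
    calc Nat.card G / c i ≤ Nat.card G / Nat.card ↥(Subgroup.centralizer {r i}) := Nat.div_le_div_left (hc i) h0
      _ = (cl i).ncard := by
        conv_lhs => rw [hG i]
        rw [Nat.mul_div_cancel_left _ h0]
  have hdis : ∀ i j, i ≠ j → Disjoint (cl i) (cl j) := by
    intro i j hij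
    rw [Set.disjoint_left]
    intro x hx hy
    exact hne i j hij (IsConj.trans hx (IsConj.symm hy))
  have hcard : (⋃ i, cl i).ncard = ∑ i, (cl i).ncard := by
    have h := Set.ncard_iUnion_of_finite (s := cl) (fun i => Set.toFinite _) (fun i j hij => hdis i j hij)
    rw [h, finsum_eq_sum_of_fintype]
  have hle : (⋃ i, cl i).ncard ≤ Nat.card G := by
    rw [← Set.ncard_univ]
    exact Set.ncard_le_ncard (Set.subset_univ _) (Set.toFinite _)
  have heq : ∀ i ∈ Finset.univ, Nat.card G / c i = (cl i).ncard :=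
    (Finset.sum_eq_sum_iff_of_le fun i _ => hcl i).1
      (le_antisymm (Finset.sum_le_sum fun i _ => hcl i) (by rw [← hcard]; exact hle.trans hsum))
  intro i
  refine le_antisymm (hc i) ?_
  by_contra hlt
  push Not at hlt
  have h1 := heq i (Finset.mem_univ i)
  have h2 := hG i
  have h3 : 0 < (cl i).ncard := by
    apply Nat.pos_of_ne_zero
    intro h
    rw [h, mul_zero] at h2
    omega
  have h4 : (cl i).ncard * c i ≤ Nat.card G := by
    rw [← h1]
    exact Nat.div_mul_le_self _ _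
  have h5 : Nat.card ↥(Subgroup.centralizer {r i}) * (cl i).ncard < (cl i).ncard * c i := by
    rw [mul_comm]
    exact Nat.mul_lt_mul_of_pos_left hlt h3
  omega

section

variable {G : Type*} [Group G] [Finite G] (S : Mdl G)

theorem exact_ent {a b : G} {MA MB : List ℕ} (ha : ∀ c, S.L a c = xc MA c) (hb : ∀ c, S.L b c = xc MB c)
    (Dl : List Ent) (hW : ∀ d ∈ Dl, okW MA MB d = true) (hK : ∀ d ∈ Dl, okK S.C S.D S.U d = true)
    (hc : ∀ d ∈ Dl, ∀ r, (∀ c, S.L r c = xc d.R c) → Nat.card ↥(Subgroup.centralizer {r}) ≤ d.c + 1)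
    (hp : Dl.Pairwise fun d e => dif d.K e.K = true ∨
      ∀ r s, (∀ c, S.L r c = xc d.R c) → (∀ c, S.L s c = xc e.R c) → ¬ IsConj r s)
    (hsum : Nat.card G ≤ (Dl.map fun d => Nat.card G / (d.c + 1)).sum) :
    ∀ d ∈ Dl, Nat.card ↥(Subgroup.centralizer {wG a b d.x d.w}) = d.c + 1 := by
  have hmem : ∀ i : Fin Dl.length, Dl[i.1] ∈ Dl := fun i => List.getElem_mem i.2
  have hr : ∀ d ∈ Dl, ∀ c, S.L (wG a b d.x d.w) c = xc d.R c := fun d hd => S.of_chkWd ha hb (hW d hd)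
  have hk : ∀ d ∈ Dl, chkK S.C S.D S.U (cmb 18 13) d.R d.K = true := by
    intro d hd
    have h := hK d hd
    rwa [okK, fB_eq] at h
  have hlt : ∀ i j : Fin Dl.length, i < j →
      ¬ IsConj (wG a b (Dl[i.1]).x (Dl[i.1]).w) (wG a b (Dl[j.1]).x (Dl[j.1]).w) := by
    intro i j hij
    rcases (List.pairwise_iff_getElem.1 hp) i.1 j.1 i.2 j.2 hij with h | h
    · exact S.not_conj (hr _ (hmem i)) (hr _ (hmem j)) (hk _ (hmem i)) (hk _ (hmem j)) h
    · exact h _ _ (hr _ (hmem i)) (hr _ (hmem j))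
  have key := exactG (fun i : Fin Dl.length => wG a b (Dl[i.1]).x (Dl[i.1]).w) (fun i => (Dl[i.1]).c + 1)
    (fun i => hc _ (hmem i) _ (hr _ (hmem i))) (fun i j hij h => by
      rcases lt_or_gt_of_ne hij with h1 | h1
      · exact hlt i j h1 h
      · exact hlt j i h1 h.symm) (by
      rw [Fin.sum_univ_fun_getElem Dl (fun d => Nat.card G / (d.c + 1))]
      exact hsum)
  intro d hd
  obtain ⟨i, hi, rfl⟩ := List.getElem_of_mem hd
  exact key ⟨i, hi⟩

/-- **the exact centralizer orders in `Co1`** -/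
theorem exact_abs (hC : S.C = CL) (hD : S.D = DL) (hU : S.U = XL) (h2 : S.two = tw) {a b : G}
    (ha : ∀ c, S.L a c = xc MA c) (hb : ∀ c, S.L b c = xc MB c) (hG : Nat.card G = 4157776806543360000)
    (h7 : ∀ g : G, orderOf g = 7 → Nat.card ↥(Subgroup.centralizer {g}) ≤ 17640) :
    ∀ d ∈ Dl, Nat.card ↥(Subgroup.centralizer {wG a b d.x d.w}) = d.c + 1 := by
  classical
  have hun : ∀ x : G, (∀ c, S.L x c = xc unL c) → x = 1 := by
    intro x hx
    apply S.faith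
    intro k hk
    rw [hx, Mdl.xc_unL _ (Nat.pow_lt_pow_right (by norm_num) hk)]
  refine exact_ent S ha hb Dl allW (by rw [hC, hD, hU]; exact allK) (fun d hd r hr => ?_)
    (pwD.imp fun {x y} h => h.imp id fun h r s hr hs hc => ?_) (by rw [hG]; exact sumD.ge)
  · rcases allB d hd with h | rfl | rfl
    · obtain ⟨b', L, h1⟩ := h
      exact S.card_cent hr (by rw [hC, hD, hU, h2]; exact h1)
    · refine h7 r ?_
      have h1 : wG r r false [false, false, false, false, false, false] = 1 := hun _ (S.of_chkWd hr hr w25)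
      have h3 : r ^ 7 = 1 := by
        rw [← h1]
        simp only [wG, cond_false, pow_succ, pow_zero, one_mul, mul_assoc]
      refine (orderOf_eq_prime_iff (hp := ⟨by norm_num⟩)).2 ⟨h3, fun h4 => ?_⟩
      have h5 := hr (2 ^ 0)
      rw [h4, S.L_one _ (by norm_num), xc_two_pow] at h5
      revert h5
      decide
    · calc Nat.card ↥(Subgroup.centralizer {r}) ≤ Nat.card G := Subgroup.card_le_card_group _
        _ = d100.c + 1 := hG
  · rw [h.1] at hr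
    rw [h.2] at hs
    have h1 : r * s = 1 := hun _ (S.of_chkWd hr hs w93)
    have h3 : s = r⁻¹ := eq_inv_of_mul_eq_one_right h1
    rw [h3] at hc
    exact no39 S hU hC hD r hr hc

end

theorem card_cent_conj {G : Type*} [Group G] {g h : G} (hc : IsConj g h) :
    Nat.card ↥(Subgroup.centralizer ({g} : Set G)) = Nat.card ↥(Subgroup.centralizer ({h} : Set G)) := by
  obtain ⟨a, rfl⟩ := isConj_iff.1 hc
  have h1 : (Subgroup.centralizer ({g} : Set G)).map (MulAut.conj a).toMonoidHom =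
      Subgroup.centralizer ({a * g * a⁻¹} : Set G) := by
    ext x
    constructor
    · rintro ⟨y, hy, rfl⟩
      have h2 : y * g = g * y := Subgroup.mem_centralizer_singleton_iff.1 hy
      refine Subgroup.mem_centralizer_singleton_iff.2 ?_
      show a * y * a⁻¹ * (a * g * a⁻¹) = a * g * a⁻¹ * (a * y * a⁻¹)
      calc a * y * a⁻¹ * (a * g * a⁻¹) = a * (y * g) * a⁻¹ := by group
        _ = a * (g * y) * a⁻¹ := by rw [h2]
        _ = a * g * a⁻¹ * (a * y * a⁻¹) := by group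
    · intro hx
      have h2 : x * (a * g * a⁻¹) = a * g * a⁻¹ * x := Subgroup.mem_centralizer_singleton_iff.1 hx
      refine ⟨a⁻¹ * x * a, Subgroup.mem_centralizer_singleton_iff.2 ?_, ?_⟩
      · calc a⁻¹ * x * a * g = a⁻¹ * (x * (a * g * a⁻¹)) * a := by group
          _ = a⁻¹ * (a * g * a⁻¹ * x) * a := by rw [h2]
          _ = g * (a⁻¹ * x * a) := by group
      · show a * (a⁻¹ * x * a) * a⁻¹ = x
        group
  rw [← h1, Subgroup.card_map_of_injective (MulAut.conj a).injective]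

/-- every element is conjugate to a representative, with the exact centralizer order -/
theorem cls (g : Spor.Co1) : ∃ d ∈ Dl, IsConj g (wG ga gb d.x d.w) ∧
    (∀ c, S1.L (wG ga gb d.x d.w) c = xc d.R c) ∧ Nat.card ↥(Subgroup.centralizer ({g} : Set Spor.Co1)) = d.c + 1 := by
  obtain ⟨d, hd, hc, hm⟩ := cover g
  refine ⟨d, hd, hc, hm, ?_⟩
  rw [card_cent_conj hc]
  exact exact_abs S1 rfl rfl rfl rfl (a := ga) (b := gb) L_ga L_gb card_co1 (fun _ h => Cfsg.Agent.H785.TC.seven h) d hd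

/-- the matrix to the power `p` is one -/
def pw (R : List ℕ) (p : ℕ) : Bool := (List.range 24).all fun i => Nat.beq ((xc R)^[p] (2 ^ i)) (2 ^ i)

theorem L_pow {G : Type*} [Group G] (S : Mdl G) {r : G} {R : List ℕ} (hr : ∀ c, S.L r c = xc R c) (p : ℕ) {c : ℕ}
    (hc : c < 2 ^ 24) : S.L (r ^ p) c = (xc R)^[p] c := by
  induction p with
  | zero => rw [pow_zero, S.L_one c hc]; rfl
  | succ n ih => rw [pow_succ', S.L_mul, ih, hr, Function.iterate_succ_apply']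

theorem pw_iff {G : Type*} [Group G] (S : Mdl G) {r : G} {R : List ℕ} (hr : ∀ c, S.L r c = xc R c) (p : ℕ) :
    pw R p = true ↔ r ^ p = 1 := by
  unfold pw
  rw [List.all_eq_true]
  constructor
  · intro h
    apply S.faith
    intro k hk
    rw [L_pow S hr p (Nat.pow_lt_pow_right (by norm_num) hk)]
    exact Nat.eq_of_beq_eq_true (h k (List.mem_range.2 hk))
  · intro h k hk
    have hk' := List.mem_range.1 hk
    rw [← L_pow S hr p (Nat.pow_lt_pow_right (by norm_num) hk'), h, S.L_one _ (Nat.pow_lt_pow_right (by norm_num) hk')]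
    exact Nat.beq_refl _

private noncomputable def _root_.Cfsg.Agent.KO7966451.oEq.{ku} (α : Sort ku) (a b : Nat) (f t : α) : α := @Decidable.rec (a = b) (fun _ => α) (fun _ => f) (fun _ => t) (Nat.decEq a b)
private noncomputable def _root_.Cfsg.Agent.KO7966451.k0.{ku} (α : Sort ku) (a b : Nat) (f t : α) : α := @Bool.rec (fun _ => α) f t (Nat.beq a b)
private theorem _root_.Cfsg.Agent.KO7966451.e0.{ku} : @_root_.Cfsg.Agent.KO7966451.oEq.{ku} = @_root_.Cfsg.Agent.KO7966451.k0.{ku} := funext fun α => funext fun a => funext fun b => funext fun f => funext fun t => by delta _root_.Cfsg.Agent.KO7966451.oEq _root_.Cfsg.Agent.KO7966451.k0; cases h : Nat.beq a b <;> cases Nat.decEq a b <;> rename_i g <;> first | rfl | exact absurd g (Nat.ne_of_beq_eq_false h) | exact absurd (Nat.eq_of_beq_eq_true h) g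
private theorem _root_.Cfsg.Agent.KO7966451.e1.{ku, kv} {α : Type kv} {M : List α → Sort ku} (φ : ∀ l, M l) {z : M List.nil} {s : ∀ a l, M l → M (List.cons a l)} (h0 : φ List.nil = z) (hs : ∀ a l, φ (List.cons a l) = s a l (φ l)) (l : List α) : φ l = @List.rec α M z s l := List.rec h0 (fun a l ih => (hs a l).trans (congrArg (s a l) ih)) l
private noncomputable def _root_.Cfsg.Agent.KO7966451.k2.{ku0} : ((x0 : Sort (ku0+1)) → ((@List.{ku0} @x0) → ((x0 → @Bool) → @Bool))) := @(fun (x0 : Sort (ku0+1)) (x1 : @List.{ku0} @x0) (x2 : (x0 → @Bool)) => @List.rec.{(ku0+1), ku0} @x0 @(fun (x3 : @List.{ku0} @x0) => ((x0 → @Bool) → @Bool)) @(fun (x3 : (x0 → @Bool)) => @Bool.true) @(fun (x3 : x0) (x4 : @List.{ku0} @x0) (x5 : ((x0 → @Bool) → @Bool)) (x6 : (x0 → @Bool)) => @Bool.rec.{1} @(fun (x7 : @Bool) => @Bool) @Bool.false (@x5 @x6) (@x6 @x3)) @x1 @x2)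
private theorem _root_.Cfsg.Agent.KO7966451.e2.{ku0} : @List.all.{ku0} = @_root_.Cfsg.Agent.KO7966451.k2.{ku0} := by delta _root_.Cfsg.Agent.KO7966451.k2; funext a0 a1 a2; refine (congrFun (_root_.Cfsg.Agent.KO7966451.e1 (fun a1 a2 => @List.all.{ku0} a0 a1 a2) ?_ (fun c0 c1 => ?_) a1) a2 :) <;> (rfl')
private theorem _root_.Cfsg.Agent.KO7966451.e4.{ku} {M : Nat → Sort ku} (φ : ∀ n, M n) {z : M Nat.zero} {s : ∀ n, M n → M (Nat.succ n)} (h0 : φ Nat.zero = z) (hs : ∀ n, φ (Nat.succ n) = s n (φ n)) (n : Nat) : φ n = @Nat.rec M z s n := Nat.rec h0 (fun n ih => (hs n).trans (congrArg (s n) ih)) n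
private noncomputable def _root_.Cfsg.Agent.KO7966451.k5 : (@Nat → ((@List.{0} @Nat) → @List.{0} @Nat)) := @(fun (x0 : @Nat) (x1 : @List.{0} @Nat) => @Nat.rec.{1} @(fun (x2 : @Nat) => ((@List.{0} @Nat) → @List.{0} @Nat)) @(fun (x2 : @List.{0} @Nat) => x2) @(fun (x2 : @Nat) (x3 : ((@List.{0} @Nat) → @List.{0} @Nat)) (x4 : @List.{0} @Nat) => @x3 (@List.cons.{0} @Nat @x2 @x4)) @x0 @x1)
private theorem _root_.Cfsg.Agent.KO7966451.e5 : @List.range.loop = @_root_.Cfsg.Agent.KO7966451.k5 := by delta _root_.Cfsg.Agent.KO7966451.k5; funext a0 a1; refine (congrFun (_root_.Cfsg.Agent.KO7966451.e4 (fun a0 a1 => @List.range.loop a0 a1) ?_ (fun c0 => ?_) a0) a1 :) <;> (rfl')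
private noncomputable def _root_.Cfsg.Agent.KO7966451.k6.{ku0} : ((x0 : Sort ku0) → ((x0 → x0) → (@Nat → (x0 → x0)))) := @(fun (x0 : Sort ku0) (x1 : (x0 → x0)) (x2 : @Nat) (x3 : x0) => @Nat.rec.{ku0} @(fun (x4 : @Nat) => (x0 → x0)) @(fun (x4 : x0) => x4) @(fun (x4 : @Nat) (x5 : (x0 → x0)) (x6 : x0) => @x5 (@x1 @x6)) @x2 @x3)
private theorem _root_.Cfsg.Agent.KO7966451.e6.{ku0} : @Nat.iterate.{ku0} = @_root_.Cfsg.Agent.KO7966451.k6.{ku0} := by delta _root_.Cfsg.Agent.KO7966451.k6; funext a0 a1 a2 a3; refine (congrFun (_root_.Cfsg.Agent.KO7966451.e4 (fun a2 a3 => @Nat.iterate.{ku0} a0 a1 a2 a3) ?_ (fun c0 => ?_) a2) a3 :) <;> (rfl')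
private noncomputable def _root_.Cfsg.Agent.KO7966451.k7 : (by first | exact type_of% @Cfsg.Agent.H123.Cls.xc | exact Unit : Sort _) := by first | (refine @Subtype.val _ (fun g => @Cfsg.Agent.H123.Cls.xc = @g) (@Subtype.mk _ _ (@(fun (x0 : @List.{0} @Nat) (x1 : @Nat) => @List.rec.{1, 0} @Nat @(fun (x2 : @List.{0} @Nat) => (@Nat → @Nat)) @(fun (x2 : @Nat) => nat_lit 0) @(fun (x2 : @Nat) (x3 : @List.{0} @Nat) (x4 : (@Nat → @Nat)) (x5 : @Nat) => @Nat.xor (@Bool.rec.{1} @(fun (x6 : @Bool) => @Nat) (nat_lit 0) @x2 (@Bool.rec.{1} @(fun (x6 : @Bool) => @Bool) @Bool.true @Bool.false (@Cfsg.Agent.KO7966451.k0.{1} @Bool (@Nat.land (nat_lit 1) (@Nat.shiftRight @x5 (nat_lit 0))) (nat_lit 0) @Bool.false @Bool.true))) (@x4 (@Nat.shiftRight @x5 (nat_lit 1)))) @x0 @x1)) ?_); rewrite [← Cfsg.Agent.KO7966451.e0.{1}]; funext a0 a1; refine (congrFun (_root_.Cfsg.Agent.KO7966451.e1 (fun a0 a1 => @Cfsg.Agent.H123.Cls.xc a0 a1)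 ?_ (fun c0 c1 => ?_) a0) a1 :) <;> (rfl')) | exact @Cfsg.Agent.H123.Cls.xc | exact ()
private theorem _root_.Cfsg.Agent.KO7966451.e7 : (by first | exact @Cfsg.Agent.H123.Cls.xc = @_root_.Cfsg.Agent.KO7966451.k7 | exact True : Prop) := by first | (delta _root_.Cfsg.Agent.KO7966451.k7; exact @Subtype.property _ (fun g => @Cfsg.Agent.H123.Cls.xc = @g) _) | rfl | trivial
private noncomputable def _root_.Cfsg.Agent.KO7966451.k8 : (by first | exact type_of% @Cfsg.Agent.H68.S8.pw | exact Unit : Sort _) := by first | (refine @Subtype.val _ (fun g => @Cfsg.Agent.H68.S8.pw = @g) (@Subtype.mk _ _ (@(fun (x0 : @List.{0} @Nat) (x1 : @Nat) => @Cfsg.Agent.KO7966451.k2.{0} @Nat (@Cfsg.Agent.KO7966451.k5 (nat_lit 24) (@List.nil.{0} @Nat)) @(fun (x2 : @Nat) => @Nat.beq (@Cfsg.Agent.KO7966451.k6.{1} @Nat (@Cfsg.Agent.KO7966451.k7 @x0) @x1 (@Nat.pow (nat_lit 2) @x2)) (@Nat.pow (nat_lit 2) @x2)))) ?_); rewrite [← Cfsg.Agent.KO7966451.e2.{0},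 ← Cfsg.Agent.KO7966451.e5, ← Cfsg.Agent.KO7966451.e6.{1}, ← Cfsg.Agent.KO7966451.e7]; (try delta Cfsg.Agent.H68.S8.pw); (try generalize @Cfsg.Agent.H123.Cls.xc = g0); rfl') | exact @Cfsg.Agent.H68.S8.pw | exact ()
private theorem _root_.Cfsg.Agent.KO7966451.e8 : (by first | exact @Cfsg.Agent.H68.S8.pw = @_root_.Cfsg.Agent.KO7966451.k8 | exact True : Prop) := by first | (delta _root_.Cfsg.Agent.KO7966451.k8; exact @Subtype.property _ (fun g => @Cfsg.Agent.H68.S8.pw = @g) _) | rfl | trivial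
end Cfsg.Agent.H68.S8
end

-- part: SP/Mon/Two/Co
section
/-! # S5755, the Monster, 2-local subgroups: class counts in `Co1`

From the list of the 101 classes of `Co1`: the numbers of the elements of order 2, 3, 6, 10, sorted by the numbers
`fr s` of the fixed classes and `kn s` of the classes killed by `1 + s + s ^ 2`. -/

set_option autoImplicit false
set_option maxRecDepth 1000000

namespace Cfsg.Agent.SP.Mon.Two

open Cfsg Cfsg.Agent.H123.Cls Cfsg.Agent.H123.Cls.CoD Cfsg.Agent.H68.CoMdl Cfsg.Agent.H68.CoGen Cfsg.Agent.H68.S8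
open Cfsg.Agent.MonsterU.Lam2
open Cfsg.Agent.LThreeMB (fr fr_conj)
open Cfsg.Spor (Co1)
open Subgroup (centralizer mem_centralizer_singleton_iff)

theorem finL2 : Finite L2 := Nat.finite_of_card_ne_zero (by rw [card_L2]; norm_num)

theorem finCo : Finite Co1 := finite_co1

/-- the order of `Co1` -/
abbrev NC : ℕ := 4157776806543360000

/-- the size of a class -/
theorem class_le {G : Type*} [Group G] [Finite G] (g : G) :
    {x | IsConj g x}.ncard * Nat.card (centralizer ({g} : Set G)) ≤ Nat.card G := by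
  have h := dc (fun t x : G => t * g * t⁻¹ = x) (X := Set.univ) (Ob := {x | IsConj g x}) (Set.toFinite _)
    (Set.toFinite _) (m := Nat.card (centralizer ({g} : Set G))) (f := 1) (fun x hx => ?_) (fun t _ => ?_)
  · rwa [mul_one, Set.ncard_univ] at h
  · obtain ⟨t, rfl⟩ := isConj_iff.1 hx
    rw [← SetLike.coe_sort_coe, Nat.card_coe_set_eq]
    refine ncard_le_of_inj (fun c => t * c) (Set.toFinite _) (fun c hc => ⟨trivial, ?_⟩)
      fun _ _ _ _ e => mul_left_cancel e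
    have h1 : c * g = g * c := mem_centralizer_singleton_iff.1 hc
    calc t * c * g * (t * c)⁻¹ = t * (c * g) * c⁻¹ * t⁻¹ := by group
      _ = t * g * t⁻¹ := by rw [h1]; group
  · exact (Set.ncard_le_one (Set.toFinite _)).2 fun a ha b hb => ha.2.symm.trans hb.2

/-- the class of an entry -/
def clE (d : Ent) : Set Co1 :=
  {g | IsConj g (wG ga gb d.x d.w) ∧ Nat.card (centralizer ({g} : Set Co1)) = d.c + 1}

theorem clE_le (d : Ent) : (clE d).ncard ≤ NC / (d.c + 1) := by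
  have := finCo
  rcases (clE d).eq_empty_or_nonempty with h | ⟨g, hg⟩
  · rw [h]; simp
  · rw [Nat.le_div_iff_mul_le (Nat.succ_pos _)]
    have h1 := class_le g
    rw [hg.2, card_co1] at h1
    refine le_trans (Nat.mul_le_mul_right _ (Set.ncard_le_ncard (fun x hx => ?_) (Set.toFinite _))) h1
    exact hg.1.trans hx.1.symm

theorem union_le : ∀ l : List Ent, {g | ∃ d ∈ l, g ∈ clE d}.ncard ≤ (l.map fun d => NC / (d.c + 1)).sum
  | [] => by simp
  | d :: l => by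
    have := finCo
    rw [List.map_cons, List.sum_cons]
    refine le_trans (ncard_cases (Y := clE d) (Z := {g | ∃ d ∈ l, g ∈ clE d}) (Set.toFinite _) (Set.toFinite _) ?_)
      (Nat.add_le_add (clE_le d) (union_le l))
    rintro g ⟨e, he, hg⟩
    rcases List.mem_cons.1 he with rfl | he
    · exact Or.inl hg
    · exact Or.inr ⟨e, he, hg⟩

/-- **Counting by classes.** -/
theorem count_cls (P : Co1 → Prop) (hP : ∀ g k, P g → P (k * g * k⁻¹)) (p : List ℕ → Bool)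
    (hp : ∀ (R : List ℕ) (g : Co1), (∀ c, S1.L g c = xc R c) → P g → p R = true) {n : ℕ}
    (hn : ((Dl.filter fun d => p d.R).map fun d => NC / (d.c + 1)).sum = n) : {g | P g}.ncard ≤ n := by
  have := finCo
  rw [← hn]
  refine le_trans (Set.ncard_le_ncard (fun g hg => ?_) (Set.toFinite _)) (union_le _)
  obtain ⟨d, hd, hc, hm, he⟩ := cls g
  obtain ⟨k, hk⟩ := isConj_iff.1 hc
  exact ⟨d, List.mem_filter.2 ⟨hd, hp _ _ hm (hk ▸ hP g k hg)⟩, hc, he⟩

/-! ### kernels -/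

/-- the code of a class -/
noncomputable def cd (x : L2) : ℕ := code (Function.surjInv cl_surjective x)

theorem code_iff {v w : leechLattice} : code v = code w ↔ cl v = cl w := by
  rw [code_eq_iff, MonsterX.Psi.psi_eq_iff, cl_eq]

theorem cd_cl (v : leechLattice) : cd (cl v) = code v := code_iff.2 (Function.surjInv_eq cl_surjective (cl v))

theorem cd_lt (x : L2) : cd x < 2 ^ 24 := code_lt _

theorem cd_inj {x y : L2} (h : cd x = cd y) : x = y := by
  obtain ⟨v, rfl⟩ := cl_surjective x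
  obtain ⟨w, rfl⟩ := cl_surjective y
  rwa [cd_cl, cd_cl, code_iff] at h

theorem cd_add (x y : L2) : cd (x + y) = cd x ^^^ cd y := by
  obtain ⟨v, rfl⟩ := cl_surjective x
  obtain ⟨w, rfl⟩ := cl_surjective y
  rw [← map_add, cd_cl, cd_cl, cd_cl, code_add]

theorem cd_zero : cd 0 = 0 := by rw [← map_zero cl, cd_cl, code_zero]

theorem cd_smul (s : Co1) (x : L2) : cd (s • x) = S1.L s (cd x) := by
  obtain ⟨v, rfl⟩ := cl_surjective x
  induction s using QuotientGroup.induction_on with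
  | H g => rw [mk_smul, smul_cl, cd_cl, cd_cl, S1_L, L_code]

/-- a certificate for the size of a kernel -/
abbrev Cert : Type := List ℕ × List ℕ × List ℕ

/-- the check of a certificate -/
def chkK (Φ : ℕ → ℕ) (k : ℕ) (c : Cert) : Bool :=
  (c.2.1.all fun x => Nat.blt x (2 ^ k)) &&
    (List.range 24).all fun i => Nat.beq (xc c.1 (Φ (2 ^ i)) ^^^ xc c.2.2 (xc c.2.1 (2 ^ i))) (2 ^ i)

theorem ker_le {Φ : ℕ → ℕ} (h0 : Φ 0 = 0) (hΦ : ∀ a b, Φ (a ^^^ b) = Φ a ^^^ Φ b) {k : ℕ} {c : Cert}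
    (h : chkK Φ k c = true) {X : Set L2} (hX : ∀ x ∈ X, Φ (cd x) = 0) : X.ncard ≤ 2 ^ k := by
  unfold chkK at h
  simp only [Bool.and_eq_true, List.all_eq_true, Nat.blt_eq, Nat.beq_eq, List.mem_range] at h
  have key : ∀ a < 2 ^ 24, xc c.1 (Φ a) ^^^ xc c.2.2 (xc c.2.1 a) = a := by
    refine xor_ind _ (by rw [h0, xc_zero, xc_zero, xc_zero]; rfl) (fun a b ha hb => ?_) 24 h.2
    rw [hΦ, xc_xor, xc_xor, xc_xor]
    conv_rhs => rw [← ha, ← hb]
    ac_rfl
  have h1 : (Set.Iio (2 ^ k)).ncard = 2 ^ k := by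
    rw [← Finset.coe_Iio, Set.ncard_coe_finset, Nat.card_Iio]
  rw [← h1]
  refine ncard_le_of_inj (fun x => xc c.2.1 (cd x)) (Set.finite_Iio _) (fun x _ => Mdl.xc_lt _ h.1 _)
    fun x hx y hy e => cd_inj ?_
  have h2 := key _ (cd_lt x)
  have h3 := key _ (cd_lt y)
  have e' : xc c.2.1 (cd x) = xc c.2.1 (cd y) := e
  rw [hX x hx, e'] at h2
  rw [hX y hy] at h3
  exact h2.symm.trans h3

/-- the number of the classes killed by `1 + s + s ^ 2` -/
noncomputable def kn (s : Co1) : ℕ := {v : L2 | v + s • v + s • s • v = 0}.ncard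

theorem fr_eq (s : Co1) : fr s = {v : L2 | s • v = v}.ncard := (Nat.card_coe_set_eq {v : L2 | s • v = v})

theorem kn_conj (g s : Co1) : kn s ≤ kn (g * s * g⁻¹) := by
  have := finL2
  refine ncard_le_of_inj (fun v => g • v) (Set.toFinite _) (fun v hv => ?_) fun _ _ _ _ e => MulAction.injective g e
  have h : v + s • v + s • s • v = 0 := hv
  show g • v + (g * s * g⁻¹) • g • v + (g * s * g⁻¹) • (g * s * g⁻¹) • g • v = 0
  simp only [mul_smul, inv_smul_smul]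
  rw [← smul_add, ← smul_add, h, smul_zero]

/-- `1 + R` -/
def F1 (R : List ℕ) (c : ℕ) : ℕ := xc R c ^^^ c

/-- `1 + R + R ^ 2` -/
def F3 (R : List ℕ) (c : ℕ) : ℕ := c ^^^ xc R c ^^^ xc R (xc R c)

theorem fr_le_of {R : List ℕ} {g : Co1} (hg : ∀ c, S1.L g c = xc R c) {k : ℕ} {l : List Cert}
    (h : l.any (chkK (F1 R) k) = true) : fr g ≤ 2 ^ k := by
  obtain ⟨c, -, hc⟩ := List.any_eq_true.1 h
  rw [fr_eq]
  refine ker_le (by unfold F1; rw [xc_zero]; rfl) (fun a b => by unfold F1; rw [xc_xor]; ac_rfl) hc fun x hx => ?_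
  unfold F1
  rw [← hg, ← cd_smul, show g • x = x from hx, Nat.xor_self]

theorem kn_le_of {R : List ℕ} {g : Co1} (hg : ∀ c, S1.L g c = xc R c) {k : ℕ} {l : List Cert}
    (h : l.any (chkK (F3 R) k) = true) : kn g ≤ 2 ^ k := by
  obtain ⟨c, -, hc⟩ := List.any_eq_true.1 h
  refine ker_le (by unfold F3; rw [xc_zero, xc_zero]; rfl) (fun a b => by unfold F3; rw [xc_xor, xc_xor]; ac_rfl) hc
    fun x hx => ?_
  unfold F3
  rw [← hg, ← hg, ← cd_smul, ← cd_smul, ← cd_add, ← cd_add, show x + g • x + g • g • x = 0 from hx, cd_zero]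

/-- certificate -/
def cf0 : Cert := ⟨[0, 0, 0, 0, 0, 0, 0, 0, 0, 0, 0, 0, 3542, 3253, 763, 3364, 3975, 142, 1925, 1143, 2649, 1364,
  2779, 1307],
  [0, 0, 0, 0, 0, 0, 0, 0, 0, 0, 0, 0, 1, 2, 4, 8, 16, 32, 64, 128, 256, 512, 1024, 2048],
  [7786, 11429, 16850, 33377, 69412, 133595, 263469, 525350, 1052276, 2097433, 4194771, 8388915]⟩

/-- certificate -/
def cf1 : Cert := ⟨[0, 0, 0, 0, 0, 0, 0, 0, 0, 0, 0, 0, 0, 0, 205, 0, 252, 0, 152, 140, 154, 90, 226, 124],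
  [0, 0, 0, 0, 0, 0, 0, 0, 1, 2, 4, 8, 16, 32, 64, 128, 256, 512, 1024, 2048, 4096, 8192, 16384, 32768],
  [499, 736, 1131, 2085, 4287, 8413, 16428, 32939, 65757, 131218, 262350, 524357, 1048632, 2097261, 4194473, 8388670]⟩

/-- certificate -/
def cf2 : Cert := ⟨[0, 0, 0, 0, 0, 0, 0, 0, 111, 0, 528936, 524434, 0, 17003, 0, 541206, 528966, 545369, 4644, 0,
  4672, 32, 528977, 17084],
  [0, 0, 0, 0, 0, 0, 0, 0, 1, 0, 2, 4, 0, 8, 0, 16, 32, 64, 128, 0, 256, 512, 1024, 2048],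
  [372, 1221, 2117, 8245, 33460, 86598, 151602, 279242, 1069208, 2097181, 4718652, 8917627]⟩

/-- certificate -/
def cf3 : Cert := ⟨[10109802, 8947233, 8721603, 15740327, 12731414, 1121979, 9454793, 10500924, 433638, 4752630,
  10584725, 5108460, 4649082, 3404337, 16371360, 9344033, 6950659, 12103823, 11556353, 16698404, 564240, 15348822,
  7859164, 10126740],
  [0, 0, 0, 0, 0, 0, 0, 0, 0, 0, 0, 0, 0, 0, 0, 0, 0, 0, 0, 0, 0, 0, 0, 0],
  []⟩

/-- certificate -/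
def cf5 : Cert := ⟨[0, 0, 0, 0, 0, 0, 0, 0, 333346, 2521, 2976, 270949, 332924, 266029, 265982, 79716, 9077, 269161,
  15885, 71851, 339657, 268357, 9661, 14753],
  [0, 0, 0, 0, 0, 0, 0, 0, 0, 0, 0, 0, 0, 0, 1, 2, 0, 4, 0, 8, 16, 32, 64, 128],
  [24730, 37138, 139071, 601835, 1322757, 2174101, 4264876, 8720677]⟩

/-- certificate -/
def cf6 : Cert := ⟨[0, 0, 0, 0, 0, 260241, 27728, 243447, 438498, 441062, 45477, 310726, 0, 127350, 279687, 455301,
  396274, 432438, 184320, 113686, 407143, 176422, 64421, 34608],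
  [0, 0, 0, 1, 0, 0, 0, 0, 0, 0, 0, 0, 0, 0, 0, 0, 0, 0, 0, 2, 4, 8, 16, 32],
  [13, 833652, 1081155, 2327573, 4219729, 8396800]⟩

/-- certificate -/
def cn4 : Cert := ⟨[0, 0, 0, 0, 0, 32, 0, 0, 0, 0, 0, 1338, 0, 0, 17649, 282, 16810, 131106, 17844, 1489, 17492,
  16481, 17522, 16523],
  [0, 0, 0, 0, 0, 0, 0, 0, 0, 1, 0, 2, 4, 8, 0, 16, 32, 0, 64, 128, 256, 512, 1024, 2048],
  [699, 2261, 4597, 9226, 34132, 82311, 279930, 524528, 1066166, 2113922, 4211927, 8406156]⟩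

/-- certificate -/
def cn5 : Cert := ⟨[0, 0, 0, 0, 0, 0, 0, 0, 0, 0, 0, 0, 0, 0, 185, 134, 0, 64, 0, 41, 184, 76, 192, 112],
  [0, 0, 0, 0, 0, 0, 0, 0, 1, 2, 4, 8, 16, 32, 64, 128, 256, 512, 1024, 2048, 4096, 8192, 16384, 32768],
  [319, 697, 1110, 2175, 4185, 8364, 16527, 33010, 65685, 131209, 262272, 524395, 1048638, 2097353, 4194342, 8388646]⟩

/-- certificate -/
def cn6 : Cert := ⟨[0, 0, 0, 13, 0, 0, 0, 0, 0, 0, 0, 0, 0, 0, 0, 0, 0, 0, 0, 19, 16, 4117, 4108, 24],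
  [0, 0, 0, 0, 0, 1, 2, 4, 8, 16, 32, 64, 0, 128, 256, 512, 1024, 2048, 4096, 8192, 16384, 32768, 65536, 131072],
  [48, 88, 152, 281, 528, 1053, 2078, 8217, 20508, 36884, 65557, 131096, 262172, 524288, 1048580, 2097156, 4194313,
  8388609]⟩


/-- the test for the order `p * q` -/
def po (R : List ℕ) (n a b : ℕ) : Bool := pw R n && !(pw R a) && !(pw R b)

theorem po_of {R : List ℕ} {g : Co1} (hg : ∀ c, S1.L g c = xc R c) {n a b : ℕ} (h : orderOf g = n) (ha : ¬ n ∣ a)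
    (hb : ¬ n ∣ b) : po R n a b = true := by
  unfold po
  simp only [Bool.and_eq_true, Bool.not_eq_true', ← Bool.not_eq_true, pw_iff S1 hg, ← orderOf_dvd_iff_pow_eq_one, h]
  exact ⟨⟨dvd_rfl, ha⟩, hb⟩

theorem ord_conj {G : Type*} [Group G] (k g : G) : orderOf (k * g * k⁻¹) = orderOf g :=
  (MulAut.conj k).orderOf_eq g

theorem count_ord {n a b m : ℕ} (ha : ¬ n ∣ a) (hb : ¬ n ∣ b)
    (hn : ((Dl.filter fun d => po d.R n a b).map fun d => NC / (d.c + 1)).sum = m) :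
    {g : Co1 | orderOf g = n}.ncard ≤ m :=
  count_cls (fun g => orderOf g = n) (fun g k h => (ord_conj k g).trans h) (fun R => po R n a b)
    (fun _ _ hg h => po_of hg h ha hb) hn

theorem count_fr {n k m : ℕ} (h1 : ¬ n ∣ 1) (l : List Cert)
    (hn : ((Dl.filter fun d => po d.R n 1 1 && !(l.any (chkK (F1 d.R) k))).map fun d => NC / (d.c + 1)).sum = m) :
    {g : Co1 | orderOf g = n ∧ 2 ^ k < fr g}.ncard ≤ m :=
  count_cls (fun g => orderOf g = n ∧ 2 ^ k < fr g) (fun g k h => ⟨(ord_conj k g).trans h.1, by rw [fr_conj]; exact h.2⟩)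
    (fun R => po R n 1 1 && !(l.any (chkK (F1 R) k))) (fun R g hg h => by
      rw [Bool.and_eq_true, po_of hg h.1 h1 h1, Bool.not_eq_true', ← Bool.not_eq_true]
      exact ⟨rfl, fun h2 => absurd (fr_le_of hg h2) (not_le.2 h.2)⟩) hn

theorem count_kn {k m : ℕ} (l : List Cert)
    (hn : ((Dl.filter fun d => po d.R 3 1 1 && !(l.any (chkK (F3 d.R) k))).map fun d => NC / (d.c + 1)).sum = m) :
    {g : Co1 | orderOf g = 3 ∧ 2 ^ k < kn g}.ncard ≤ m :=
  count_cls (fun g => orderOf g = 3 ∧ 2 ^ k < kn g) (fun g k h => ⟨(ord_conj k g).trans h.1, h.2.trans_le (kn_conj k g)⟩)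
    (fun R => po R 3 1 1 && !(l.any (chkK (F3 R) k))) (fun R g hg h => by
      rw [Bool.and_eq_true, po_of hg h.1 (by norm_num) (by norm_num), Bool.not_eq_true', ← Bool.not_eq_true]
      exact ⟨rfl, fun h2 => absurd (kn_le_of hg h2) (not_le.2 h.2)⟩) hn

private noncomputable def _root_.Cfsg.Agent.KO7966451.k11 : ((x0 : Prop) → ((@Decidable @x0) → @Bool)) := @(fun (x0 : Prop) (x1 : @Decidable @x0) => @Decidable.rec.{1} @x0 @(fun (x2 : @Decidable @x0) => @Bool) @(fun (x2 : @Not @x0) => @Bool.false) @(fun (x2 : x0) => @Bool.true) @x1)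
private theorem _root_.Cfsg.Agent.KO7966451.e11 : @Decidable.decide = @_root_.Cfsg.Agent.KO7966451.k11 := by delta _root_.Cfsg.Agent.KO7966451.k11; rfl'
private noncomputable def _root_.Cfsg.Agent.KO7966451.k12.{ku0, ku1} : ((x0 : Sort (ku0+1)) → ((x1 : Sort (ku1+1)) → ((x0 → (x1 → x1)) → (x1 → ((@List.{ku0} @x0) → x1))))) := @(fun (x0 : Sort (ku0+1)) (x1 : Sort (ku1+1)) (x2 : (x0 → (x1 → x1))) (x3 : x1) (x4 : @List.{ku0} @x0) => @List.rec.{(ku1+1), ku0} @x0 @(fun (x5 : @List.{ku0} @x0) => x1) @x3 @(fun (x5 : x0) (x6 : @List.{ku0} @x0) (x7 : x1) => @x2 @x5 @x7) @x4)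
private theorem _root_.Cfsg.Agent.KO7966451.e12.{ku0, ku1} : @List.foldr.{ku0, ku1} = @_root_.Cfsg.Agent.KO7966451.k12.{ku0, ku1} := by delta _root_.Cfsg.Agent.KO7966451.k12; funext a0 a1 a2 a3 a4; refine (_root_.Cfsg.Agent.KO7966451.e1 (fun a4 => @List.foldr.{ku0, ku1} a0 a1 a2 a3 a4) ?_ (fun c0 c1 => ?_) a4 :) <;> (rfl')
private noncomputable def _root_.Cfsg.Agent.KO7966451.k13.{ku0} : ((x0 : Sort (ku0+1)) → ((@Add.{ku0} @x0) → ((@Zero.{ku0} @x0) → ((@List.{ku0} @x0) → x0)))) := @(fun (x0 : Sort (ku0+1)) (x1 : @Add.{ku0} @x0) (x2 : @Zero.{ku0} @x0) => @Cfsg.Agent.KO7966451.k12.{ku0, ku0} @x0 @x0 @(fun (x3 : x0) (x4 : x0) => @Add.add.{ku0} @x0 @x1 @x3 @x4) (@Zero.zero.{ku0} @x0 @x2))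
private theorem _root_.Cfsg.Agent.KO7966451.e13.{ku0} : @List.sum.{ku0} = @_root_.Cfsg.Agent.KO7966451.k13.{ku0} := by delta _root_.Cfsg.Agent.KO7966451.k13; rewrite [← Cfsg.Agent.KO7966451.e12.{ku0, ku0}]; rfl'
private noncomputable def _root_.Cfsg.Agent.KO7966451.k14.{ku0, ku1} : ((x0 : Sort (ku0+1)) → ((x1 : Sort (ku1+1)) → ((x0 → x1) → ((@List.{ku0} @x0) → @List.{ku1} @x1)))) := @(fun (x0 : Sort (ku0+1)) (x1 : Sort (ku1+1)) (x2 : (x0 → x1)) (x3 : @List.{ku0} @x0) => @List.rec.{(ku1+1), ku0} @x0 @(fun (x4 : @List.{ku0} @x0) => @List.{ku1} @x1) (@List.nil.{ku1} @x1) @(fun (x4 : x0) (x5 : @List.{ku0} @x0) (x6 : @List.{ku1} @x1) => @List.cons.{ku1} @x1 (@x2 @x4) @x6) @x3)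
private theorem _root_.Cfsg.Agent.KO7966451.e14.{ku0, ku1} : @List.map.{ku0, ku1} = @_root_.Cfsg.Agent.KO7966451.k14.{ku0, ku1} := by delta _root_.Cfsg.Agent.KO7966451.k14; funext a0 a1 a2 a3; refine (_root_.Cfsg.Agent.KO7966451.e1 (fun a3 => @List.map.{ku0, ku1} a0 a1 a2 a3) ?_ (fun c0 c1 => ?_) a3 :) <;> (rfl')
private noncomputable def _root_.Cfsg.Agent.KO7966451.k15.{ku0} : ((x0 : Sort (ku0+1)) → ((x0 → @Bool) → ((@List.{ku0} @x0) → @List.{ku0} @x0))) := @(fun (x0 : Sort (ku0+1)) (x1 : (x0 → @Bool)) (x2 : @List.{ku0} @x0) => @List.rec.{(ku0+1), ku0} @x0 @(fun (x3 : @List.{ku0} @x0) => @List.{ku0} @x0) (@List.nil.{ku0} @x0) @(fun (x3 : x0) (x4 : @List.{ku0} @x0) (x5 : @List.{ku0} @x0) => @Bool.rec.{(ku0+1)} @(fun (x6 : @Bool) => @List.{ku0} @x0) @x5 (@List.cons.{ku0} @x0 @x3 @x5) (@x1 @x3)) @x2)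
private theorem _root_.Cfsg.Agent.KO7966451.e15.{ku0} : @List.filter.{ku0} = @_root_.Cfsg.Agent.KO7966451.k15.{ku0} := by delta _root_.Cfsg.Agent.KO7966451.k15; funext a0 a1 a2; refine (_root_.Cfsg.Agent.KO7966451.e1 (fun a2 => @List.filter.{ku0} a0 a1 a2) ?_ (fun c0 c1 => ?_) a2 :) <;> (rfl')
private noncomputable def _root_.Cfsg.Agent.KO7966451.k16 : (by first | exact type_of% @Cfsg.Agent.SP.Mon.Two.po | exact Unit : Sort _) := by first | (refine @Subtype.val _ (fun g => @Cfsg.Agent.SP.Mon.Two.po = @g) (@Subtype.mk _ _ (@(fun (x0 : @List.{0} @Nat) (x1 : @Nat) (x2 : @Nat) (x3 : @Nat) => @Bool.rec.{1} @(fun (x4 : @Bool) => @Bool) @Bool.false (@Bool.rec.{1} @(fun (x4 : @Bool) => @Bool) @Bool.true @Bool.false (@Cfsg.Agent.KO7966451.k8 @x0 @x3)) (@Bool.rec.{1} @(fun (x4 : @Bool) => @Bool) @Bool.false (@Bool.rec.{1} @(fun (x4 : @Bool) => @Bool) @Bool.true @Bool.false (@Cfsg.Agent.KO7966451.k8 @x0 @x2)) (@Cfsg.Agent.KO7966451.k8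 @x0 @x1)))) ?_); rewrite [← Cfsg.Agent.KO7966451.e8]; (try delta Cfsg.Agent.SP.Mon.Two.po); (try generalize @Cfsg.Agent.H68.S8.pw = g0); rfl') | exact @Cfsg.Agent.SP.Mon.Two.po | exact ()
private theorem _root_.Cfsg.Agent.KO7966451.e16 : (by first | exact @Cfsg.Agent.SP.Mon.Two.po = @_root_.Cfsg.Agent.KO7966451.k16 | exact True : Prop) := by first | (delta _root_.Cfsg.Agent.KO7966451.k16; exact @Subtype.property _ (fun g => @Cfsg.Agent.SP.Mon.Two.po = @g) _) | rfl | trivial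
private noncomputable def _root_.Cfsg.Agent.KO7966451.k17 : ((x0 : @Nat) → ((x1 : @Nat) → @Decidable (@Eq.{1} @Nat @x0 @x1))) := @(fun (x0 : @Nat) (x1 : @Nat) => @Bool.rec.{1} @(fun (x2 : @Bool) => ((@Eq.{1} @Bool (@Nat.beq @x0 @x1) @x2) → @Decidable (@Eq.{1} @Nat @x0 @x1))) @(fun (x2 : @Eq.{1} @Bool (@Nat.beq @x0 @x1) @Bool.false) => @Decidable.isFalse (@Eq.{1} @Nat @x0 @x1) (@Nat.ne_of_beq_eq_false @x0 @x1 @x2)) @(fun (x2 : @Eq.{1} @Bool (@Nat.beq @x0 @x1) @Bool.true) => @Decidable.isTrue (@Eq.{1} @Nat @x0 @x1) (@Nat.eq_of_beq_eq_true @x0 @x1 @x2)) (@Nat.beq @x0 @x1) (@Eq.refl.{1} @Bool (@Nat.beq @x0 @x1)))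
private theorem _root_.Cfsg.Agent.KO7966451.e17 : @Nat.decEq = @_root_.Cfsg.Agent.KO7966451.k17 := by delta _root_.Cfsg.Agent.KO7966451.k17; rfl'
private noncomputable def _root_.Cfsg.Agent.KO7966451.k18 : @DecidableEq.{1} @Nat := @Cfsg.Agent.KO7966451.k17
private theorem _root_.Cfsg.Agent.KO7966451.e18 : @instDecidableEqNat = @_root_.Cfsg.Agent.KO7966451.k18 := by delta _root_.Cfsg.Agent.KO7966451.k18; rewrite [← Cfsg.Agent.KO7966451.e17]; rfl'

theorem n2 : {g : Co1 | orderOf g = 2}.ncard ≤ 12792894975 :=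
  count_ord (a := 1) (b := 1) (by norm_num) (by norm_num) (by (first | (refine of_decide_eq_true ?_; rewrite [Cfsg.Agent.KO7966451.e11, Cfsg.Agent.KO7966451.e13.{0}, Cfsg.Agent.KO7966451.e14.{0, 0}, Cfsg.Agent.KO7966451.e15.{0}, Cfsg.Agent.KO7966451.e16, Cfsg.Agent.KO7966451.e18]; decide +kernel) | decide +kernel))

theorem n3 : {g : Co1 | orderOf g = 3}.ncard ≤ 8039266323200 :=
  count_ord (a := 1) (b := 1) (by norm_num) (by norm_num) (by (first | (refine of_decide_eq_true ?_; rewrite [Cfsg.Agent.KO7966451.e11, Cfsg.Agent.KO7966451.e13.{0}, Cfsg.Agent.KO7966451.e14.{0, 0}, Cfsg.Agent.KO7966451.e15.{0}, Cfsg.Agent.KO7966451.e16, Cfsg.Agent.KO7966451.e18]; decide +kernel) | decide +kernel))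

theorem n6 : {g : Co1 | orderOf g = 6}.ncard ≤ 11839105133856000 :=
  count_ord (a := 2) (b := 3) (by norm_num) (by norm_num) (by (first | (refine of_decide_eq_true ?_; rewrite [Cfsg.Agent.KO7966451.e11, Cfsg.Agent.KO7966451.e13.{0}, Cfsg.Agent.KO7966451.e14.{0, 0}, Cfsg.Agent.KO7966451.e15.{0}, Cfsg.Agent.KO7966451.e16, Cfsg.Agent.KO7966451.e18]; decide +kernel) | decide +kernel))

theorem n10 : {g : Co1 | orderOf g = 10}.ncard ≤ 47208090824294400 :=
  count_ord (a := 2) (b := 5) (by norm_num) (by norm_num) (by (first | (refine of_decide_eq_true ?_; rewrite [Cfsg.Agent.KO7966451.e11, Cfsg.Agent.KO7966451.e13.{0}, Cfsg.Agent.KO7966451.e14.{0, 0}, Cfsg.Agent.KO7966451.e15.{0}, Cfsg.Agent.KO7966451.e16, Cfsg.Agent.KO7966451.e18]; decide +kernel) | decide +kernel))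

private noncomputable def _root_.Cfsg.Agent.KO7966451.k19 : (@Bool → (@Bool → @Bool)) := @(fun (x0 : @Bool) (x1 : @Bool) => @Bool.rec.{1} @(fun (x2 : @Bool) => @Bool) @Bool.false @x1 @x0)
private theorem _root_.Cfsg.Agent.KO7966451.e19 : @Bool.and = @_root_.Cfsg.Agent.KO7966451.k19 := by delta _root_.Cfsg.Agent.KO7966451.k19; rfl'
private noncomputable def _root_.Cfsg.Agent.KO7966451.k20 : (@Bool → @Bool) := @(fun (x0 : @Bool) => @Bool.rec.{1} @(fun (x1 : @Bool) => @Bool) @Bool.true @Bool.false @x0)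
private theorem _root_.Cfsg.Agent.KO7966451.e20 : @Bool.not = @_root_.Cfsg.Agent.KO7966451.k20 := by delta _root_.Cfsg.Agent.KO7966451.k20; rfl'
private noncomputable def _root_.Cfsg.Agent.KO7966451.k21.{ku0} : ((x0 : Sort (ku0+1)) → ((@List.{ku0} @x0) → ((x0 → @Bool) → @Bool))) := @(fun (x0 : Sort (ku0+1)) (x1 : @List.{ku0} @x0) (x2 : (x0 → @Bool)) => @List.rec.{(ku0+1), ku0} @x0 @(fun (x3 : @List.{ku0} @x0) => ((x0 → @Bool) → @Bool)) @(fun (x3 : (x0 → @Bool)) => @Bool.false) @(fun (x3 : x0) (x4 : @List.{ku0} @x0) (x5 : ((x0 → @Bool) → @Bool)) (x6 : (x0 → @Bool)) => @Bool.rec.{1} @(fun (x7 : @Bool) => @Bool) (@x5 @x6) @Bool.true (@x6 @x3)) @x1 @x2)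
private theorem _root_.Cfsg.Agent.KO7966451.e21.{ku0} : @List.any.{ku0} = @_root_.Cfsg.Agent.KO7966451.k21.{ku0} := by delta _root_.Cfsg.Agent.KO7966451.k21; funext a0 a1 a2; refine (congrFun (_root_.Cfsg.Agent.KO7966451.e1 (fun a1 a2 => @List.any.{ku0} a0 a1 a2) ?_ (fun c0 c1 => ?_) a1) a2 :) <;> (rfl')
private noncomputable def _root_.Cfsg.Agent.KO7966451.k22 : (by first | exact type_of% @Cfsg.Agent.SP.Mon.Two.chkK | exact Unit : Sort _) := by first | (refine @Subtype.val _ (fun g => @Cfsg.Agent.SP.Mon.Two.chkK = @g) (@Subtype.mk _ _ (@(fun (x0 : (@Nat → @Nat)) (x1 : @Nat) (x2 : @Cfsg.Agent.SP.Mon.Two.Cert) => @Bool.rec.{1} @(fun (x3 : @Bool) => @Bool) @Bool.false (@Cfsg.Agent.KO7966451.k2.{0} @Nat (@Cfsg.Agent.KO7966451.k5 (nat_lit 24) (@List.nil.{0} @Nat)) @(fun (x3 : @Nat) => @Nat.beq (@Nat.xor (@Cfsg.Agent.KO7966451.k7 (@Prod.fst.{0, 0} (@List.{0} @Nat) (@Prod.{0, 0} (@List.{0} @Nat) (@List.{0} @Nat))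 @x2) (@x0 (@Nat.pow (nat_lit 2) @x3))) (@Cfsg.Agent.KO7966451.k7 (@Prod.snd.{0, 0} (@List.{0} @Nat) (@List.{0} @Nat) (@Prod.snd.{0, 0} (@List.{0} @Nat) (@Prod.{0, 0} (@List.{0} @Nat) (@List.{0} @Nat)) @x2)) (@Cfsg.Agent.KO7966451.k7 (@Prod.fst.{0, 0} (@List.{0} @Nat) (@List.{0} @Nat) (@Prod.snd.{0, 0} (@List.{0} @Nat) (@Prod.{0, 0} (@List.{0} @Nat) (@List.{0} @Nat)) @x2)) (@Nat.pow (nat_lit 2) @x3)))) (@Nat.pow (nat_lit 2) @x3))) (@Cfsg.Agent.KO7966451.k2.{0} @Nat (@Prod.fst.{0, 0} (@List.{0} @Nat) (@List.{0} @Nat) (@Prod.snd.{0, 0} (@List.{0} @Nat) (@Prod.{0, 0} (@List.{0} @Nat) (@List.{0} @Nat)) @x2)) @(fun (x3 : @Nat) => @Nat.ble (@Nat.succ @x3) (@Nat.pow (nat_lit 2) @x1))))) ?_); rewrite [← Cfsg.Agent.KO7966451.e2.{0}, ← Cfsg.Agent.KO7966451.e5, ← Cfsg.Agent.KO7966451.e7]; (try delta Cfsg.Agent.SP.Mon.Two.chkK); (try generalize @Cfsg.Agent.H123.Cls.xc = g0); rfl') | exact @Cfsg.Agent.SP.Mon.Two.chkK |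 exact ()
private theorem _root_.Cfsg.Agent.KO7966451.e22 : (by first | exact @Cfsg.Agent.SP.Mon.Two.chkK = @_root_.Cfsg.Agent.KO7966451.k22 | exact True : Prop) := by first | (delta _root_.Cfsg.Agent.KO7966451.k22; exact @Subtype.property _ (fun g => @Cfsg.Agent.SP.Mon.Two.chkK = @g) _) | rfl | trivial
private noncomputable def _root_.Cfsg.Agent.KO7966451.k23 : (by first | exact type_of% @Cfsg.Agent.SP.Mon.Two.F1 | exact Unit : Sort _) := by first | (refine @Subtype.val _ (fun g => @Cfsg.Agent.SP.Mon.Two.F1 = @g) (@Subtype.mk _ _ (@(fun (x0 : @List.{0} @Nat) (x1 : @Nat) => @Nat.xor (@Cfsg.Agent.KO7966451.k7 @x0 @x1) @x1)) ?_); rewrite [← Cfsg.Agent.KO7966451.e7]; (try delta Cfsg.Agent.SP.Mon.Two.F1); (try generalize @Cfsg.Agent.H123.Cls.xc = g0); rfl') | exact @Cfsg.Agent.SP.Mon.Two.F1 | exact ()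
private theorem _root_.Cfsg.Agent.KO7966451.e23 : (by first | exact @Cfsg.Agent.SP.Mon.Two.F1 = @_root_.Cfsg.Agent.KO7966451.k23 | exact True : Prop) := by first | (delta _root_.Cfsg.Agent.KO7966451.k23; exact @Subtype.property _ (fun g => @Cfsg.Agent.SP.Mon.Two.F1 = @g) _) | rfl | trivial

theorem n2a : {g : Co1 | orderOf g = 2 ∧ 2 ^ 12 < fr g}.ncard ≤ 46621575 :=
  count_fr (by norm_num) [cf0, cf2] (by (first | (refine of_decide_eq_true ?_; rewrite [Cfsg.Agent.KO7966451.e11, Cfsg.Agent.KO7966451.e13.{0}, Cfsg.Agent.KO7966451.e14.{0, 0}, Cfsg.Agent.KO7966451.e15.{0}, Cfsg.Agent.KO7966451.e19, Cfsg.Agent.KO7966451.e16, Cfsg.Agent.KO7966451.e20, Cfsg.Agent.KO7966451.e21.{0}, Cfsg.Agent.KO7966451.e22, Cfsg.Agent.KO7966451.e23, Cfsg.Agent.KO7966451.e18]; decide +kernel) | decide +kernel))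

theorem fr_two {g : Co1} (hg : orderOf g = 2) : fr g ≤ 2 ^ 16 := by
  have := finCo
  have h : {g : Co1 | orderOf g = 2 ∧ 2 ^ 16 < fr g}.ncard ≤ 0 :=
    count_fr (by norm_num) [cf0, cf1, cf2] (by (first | (refine of_decide_eq_true ?_; rewrite [Cfsg.Agent.KO7966451.e11, Cfsg.Agent.KO7966451.e13.{0}, Cfsg.Agent.KO7966451.e14.{0, 0}, Cfsg.Agent.KO7966451.e15.{0}, Cfsg.Agent.KO7966451.e19, Cfsg.Agent.KO7966451.e16, Cfsg.Agent.KO7966451.e20, Cfsg.Agent.KO7966451.e21.{0}, Cfsg.Agent.KO7966451.e22, Cfsg.Agent.KO7966451.e23, Cfsg.Agent.KO7966451.e18]; decide +kernel) | decide +kernel))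
  by_contra hc
  have h1 := (Set.ncard_pos (Set.toFinite _)).2
    (⟨g, hg, not_le.1 hc⟩ : {g : Co1 | orderOf g = 2 ∧ 2 ^ 16 < fr g}.Nonempty)
  omega

theorem n12 : {g : Co1 | orderOf g = 3 ∧ 2 ^ 8 < fr g}.ncard ≤ 70726656000 :=
  count_fr (by norm_num) [cf3, cf5, cf6] (by (first | (refine of_decide_eq_true ?_; rewrite [Cfsg.Agent.KO7966451.e11, Cfsg.Agent.KO7966451.e13.{0}, Cfsg.Agent.KO7966451.e14.{0, 0}, Cfsg.Agent.KO7966451.e15.{0}, Cfsg.Agent.KO7966451.e19, Cfsg.Agent.KO7966451.e16, Cfsg.Agent.KO7966451.e20, Cfsg.Agent.KO7966451.e21.{0}, Cfsg.Agent.KO7966451.e22, Cfsg.Agent.KO7966451.e23, Cfsg.Agent.KO7966451.e18]; decide +kernel) | decide +kernel))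

private noncomputable def _root_.Cfsg.Agent.KO7966451.k24 : (by first | exact type_of% @Cfsg.Agent.SP.Mon.Two.F3 | exact Unit : Sort _) := by first | (refine @Subtype.val _ (fun g => @Cfsg.Agent.SP.Mon.Two.F3 = @g) (@Subtype.mk _ _ (@(fun (x0 : @List.{0} @Nat) (x1 : @Nat) => @Nat.xor (@Nat.xor @x1 (@Cfsg.Agent.KO7966451.k7 @x0 @x1)) (@Cfsg.Agent.KO7966451.k7 @x0 (@Cfsg.Agent.KO7966451.k7 @x0 @x1)))) ?_); rewrite [← Cfsg.Agent.KO7966451.e7]; (try delta Cfsg.Agent.SP.Mon.Two.F3); (try generalize @Cfsg.Agent.H123.Cls.xc = g0); rfl') | exact @Cfsg.Agent.SP.Mon.Two.F3 | exact ()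
private theorem _root_.Cfsg.Agent.KO7966451.e24 : (by first | exact @Cfsg.Agent.SP.Mon.Two.F3 = @_root_.Cfsg.Agent.KO7966451.k24 | exact True : Prop) := by first | (delta _root_.Cfsg.Agent.KO7966451.k24; exact @Subtype.property _ (fun g => @Cfsg.Agent.SP.Mon.Two.F3 = @g) _) | rfl | trivial

theorem nk18 : {g : Co1 | orderOf g = 3 ∧ 2 ^ 18 < kn g}.ncard ≤ 3091200 :=
  count_kn [cn4, cn5, cn6] (by (first | (refine of_decide_eq_true ?_; rewrite [Cfsg.Agent.KO7966451.e11, Cfsg.Agent.KO7966451.e13.{0}, Cfsg.Agent.KO7966451.e14.{0, 0}, Cfsg.Agent.KO7966451.e15.{0}, Cfsg.Agent.KO7966451.e19, Cfsg.Agent.KO7966451.e16, Cfsg.Agent.KO7966451.e20, Cfsg.Agent.KO7966451.e21.{0}, Cfsg.Agent.KO7966451.e22, Cfsg.Agent.KO7966451.e24, Cfsg.Agent.KO7966451.e18]; decide +kernel) | decide +kernel))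

theorem nk16 : {g : Co1 | orderOf g = 3 ∧ 2 ^ 16 < kn g}.ncard ≤ 330060819200 :=
  count_kn [cn4, cn5] (by (first | (refine of_decide_eq_true ?_; rewrite [Cfsg.Agent.KO7966451.e11, Cfsg.Agent.KO7966451.e13.{0}, Cfsg.Agent.KO7966451.e14.{0, 0}, Cfsg.Agent.KO7966451.e15.{0}, Cfsg.Agent.KO7966451.e19, Cfsg.Agent.KO7966451.e16, Cfsg.Agent.KO7966451.e20, Cfsg.Agent.KO7966451.e21.{0}, Cfsg.Agent.KO7966451.e22, Cfsg.Agent.KO7966451.e24, Cfsg.Agent.KO7966451.e18]; decide +kernel) | decide +kernel))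

theorem kn_mul {s : Co1} : kn s * fr s ≤ 2 ^ 24 := by
  have := finL2
  rw [fr_eq, kn, ← Set.ncard_prod, ← card_L2, ← Set.ncard_univ]
  refine ncard_le_of_inj (fun p => p.1 + p.2) (Set.toFinite _) (fun _ _ => trivial) ?_
  rintro ⟨a, b⟩ ⟨ha, hb⟩ ⟨a', b'⟩ ⟨ha', hb'⟩ e
  have N : ∀ a b : L2, a + s • a + s • s • a = 0 → s • b = b →
      (a + b) + s • (a + b) + s • s • (a + b) = b := by
    intro a b ha hb
    rw [smul_add, smul_add, hb, hb]
    calc a + b + (s • a + b) + (s • s • a + b) = (a + s • a + s • s • a) + (b + b) + b := by abel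
      _ = b := by rw [ha, add_self, zero_add, zero_add]
  have e' : a + b = a' + b' := e
  have h1 : b = b' := by rw [← N a b ha hb, e', N a' b' ha' hb']
  rw [h1] at e'
  rw [add_right_cancel e', h1]

theorem kn_le (s : Co1) : kn s ≤ 2 ^ 24 := by
  have := finL2
  rw [← card_L2, ← Set.ncard_univ]
  exact Set.ncard_le_ncard (Set.subset_univ _) (Set.toFinite _)

theorem fr_three {s : Co1} (hs : orderOf s = 3) : fr s ≤ 2 ^ 12 := by
  rcases LThreeMB.CoOneFin.coOne.ranks s hs with h | h | h | h <;> rw [h] <;> norm_num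

theorem kn_of_fix {s : Co1} (hs : orderOf s = 3) {v : L2} (h0 : v ≠ 0) (hv : s • v = v) : kn s ≤ 2 ^ 18 := by
  have := finL2
  have h1 : 1 < fr s := by
    rw [fr_eq]
    exact (Set.one_lt_ncard (Set.toFinite _)).2 ⟨v, hv, 0, smul_zero s, h0⟩
  have h2 := kn_mul (s := s)
  rcases LThreeMB.CoOneFin.coOne.ranks s hs with h | h | h | h <;> rw [h] at h1 h2 <;> omega

theorem kn_twelve {s : Co1} (h : fr s = 2 ^ 12) : kn s ≤ 2 ^ 12 := by
  have h2 := kn_mul (s := s)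
  rw [h] at h2
  omega

end Cfsg.Agent.SP.Mon.Two
end

-- part: SP/Mon/Two/Sext
section
/-! # S5755, the Monster, 2-local subgroups: sextet classes and counts in stabilisers

* `S4` : the classes of type 4 in `W12` outside `W1`; `ncard_S4`, `S4_trans`;
* `m2a`, `m2`, `m3`, `m12` : the elements of order 2, 3 fixing the frame class;
* `pk18`, `pk16`, `pk`, `p12` : the elements of order 3 with `s • f0 = v`, `f0 + s • f0 + s • s • f0 = 0`;
* `co3`, `co5` : the elements of order 3, 5 centralising the sign change of an octad. -/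

set_option autoImplicit false

namespace Cfsg.Agent.SP.Mon.Two

open Cfsg
open Cfsg.Agent.H848.TrioU
open Cfsg.Agent.SporadicA
open Cfsg.Agent.SporadicA.Xi (IsSextet fib mem_fib xiCo0)
open Cfsg.Agent.SporadicA.Co0Mono (signCo0 permCo0 wordPerm)
open Cfsg.Agent.CoOneType.SignFacts
open Cfsg.Agent.CoOneType.CoOneE (pr mem_E)
open Cfsg.Agent.MonsterU.Lam2
open Cfsg.Agent.MonsterU.CoFrameL2
open Cfsg.Agent.R2.H8.Mon.Cw Cfsg.Agent.R2.H8.Mon.Refine Cfsg.Agent.R2.H8.Mon.Lat Cfsg.Agent.R2.H8.Mon.Sing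
open Cfsg.Agent.ConwayFacts.NormL2 (isType_f0 ncard_four orbit_eq)
open Cfsg.Agent.H848.Oct (eps eps_mul_eps CO mem_CO)
open Cfsg.Agent.LThreeMB (fr fr_conj)
open Cfsg.Spor (Co1)
open Subgroup (centralizer mem_centralizer_singleton_iff)
open scoped Pointwise

/-- the sextet classes -/
def S4 : Set L2 := {v | v ∈ W12 ∧ v ∉ W1 ∧ IsType 4 v}

theorem pairL_f0 (c : golayCode) : pairL f0 c = 0 := (mem_W1_iff_pairL (W1_le_W12 f0_mem_W1)).1 f0_mem_W1 c

theorem exists_sign {v : L2} (h : v ∈ W12) (h1 : v ∉ W1) : ∃ s ∈ F, s • v = v + f0 := by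
  rw [mem_W1_iff_pairL h] at h1
  push Not at h1
  obtain ⟨c, hc⟩ := h1
  exact ⟨pr (signCo0 c), E_le_F ((mem_E _).2 ⟨c, rfl⟩), by rw [sign_smul h, if_neg hc]⟩

theorem S4_smul {s : Co1} (hs : s ∈ F) {v : L2} (hv : v ∈ S4) : s • v ∈ S4 :=
  ⟨F_mem_W12 hs hv.1, fun h => hv.2.1 (by simpa using F_mem_W1 (F.inv_mem hs) h), hv.2.2.smul1 s⟩

theorem S4_add {v : L2} (hv : v ∈ S4) : v + f0 ∈ S4 := by
  obtain ⟨s, hs, e⟩ := exists_sign hv.1 hv.2.1
  exact e ▸ S4_smul hs hv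

theorem S4_tetrad {v : L2} (hv : v ∈ S4) : ∃ X : Finset GolayPt, X.card = 4 ∧ ∀ c, pairL v c = ev X c :=
  exists_tetrad hv.1 hv.2.1 fun h => H813.OctQuad.not_two_and_four h hv.2.2

theorem exists_S4 {X : Finset GolayPt} (hX : X.card = 4) : ∃ v ∈ S4, ∀ c, pairL v c = ev X c := by
  obtain ⟨T, hT, h0⟩ := exists_sx hX
  obtain ⟨h1, h2⟩ := pairL_xi hT.sext
  rw [h0] at h2
  refine ⟨_, ⟨h1, fun h => ?_, isType_f0.smul1 _⟩, h2⟩
  have h3 := card_cases (mem_supports_of_ev (X := X) fun c => by rw [← h2]; exact (mem_W1_iff_pairL h1).1 h c)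
  omega

/-- **Transitivity.** -/
theorem S4_trans {v w : L2} (hv : v ∈ S4) (hw : w ∈ S4) : ∃ s ∈ F, s • v = w := by
  classical
  obtain ⟨X, hX, h1⟩ := S4_tetrad hv
  obtain ⟨Y, hY, h2⟩ := S4_tetrad hw
  obtain ⟨σ, hσ⟩ := SporadicStructure.M24IndexMain.exists_smul_eq_finset S0366.result (n := 4) (by norm_num) hX hY
  have hF : pr (signCo0 0 * permCo0 σ) ∈ F := MonsterU.CoFrameF.sp_mem_F 0 σ
  have h3 := eq_or_of_pairL (F_mem_W12 hF hv.1) hw.1 (fun d => by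
    obtain ⟨d, rfl⟩ : ∃ d', d = wordPerm σ d' := by
      refine ⟨wordPerm σ⁻¹ d, ?_⟩
      apply Subtype.ext
      funext i
      rw [Co0Mono.wordPerm_apply, Co0Mono.wordPerm_apply]
      exact congrArg (d : GolayPt → ZMod 2) (Equiv.apply_symm_apply (σ : Equiv.Perm GolayPt) i).symm
    rw [pairL_sp hv.1, h1, h2, ← hσ, ev_smul])
  rcases h3 with h | h
  · exact ⟨_, hF, h⟩
  · obtain ⟨s, hs, e⟩ := exists_sign hw.1 hw.2.1
    exact ⟨s⁻¹ * _, F.mul_mem (F.inv_mem hs) hF, by rw [mul_smul, h, ← e, inv_smul_smul]⟩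

/-- the tetrads through the point `none` -/
def P4 : Set (Finset GolayPt) := {X | X.card = 4 ∧ none ∈ X}

theorem ncard_P4 : P4.ncard = 1771 := by
  classical
  have e : P4 = (fun Y => insert none Y) '' ((Finset.powersetCard 3 (Finset.univ.erase (none : GolayPt)) : Finset _) : Set _) := by
    ext X
    constructor
    · rintro ⟨h1, h2⟩
      refine ⟨X.erase none, Finset.mem_coe.2 (Finset.mem_powersetCard.2 ⟨Finset.erase_subset_erase _ (Finset.subset_univ _), ?_⟩),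
        Finset.insert_erase h2⟩
      rw [Finset.card_erase_of_mem h2, h1]
    · rintro ⟨Y, hY, rfl⟩
      obtain ⟨h1, h2⟩ := Finset.mem_powersetCard.1 (Finset.mem_coe.1 hY)
      have h3 : none ∉ Y := fun h => by simpa using h1 h
      exact ⟨by rw [Finset.card_insert_of_notMem h3, h2], Finset.mem_insert_self _ _⟩
  rw [e, Set.InjOn.ncard_image, Set.ncard_coe_finset, Finset.card_powersetCard,
    Finset.card_erase_of_mem (Finset.mem_univ _), Finset.card_univ]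
  · have : Fintype.card GolayPt = 24 := by decide
    rw [this]
    decide
  · intro Y hY Z hZ h
    have h1 : none ∉ Y := fun h => by simpa using (Finset.mem_powersetCard.1 (Finset.mem_coe.1 hY)).1 h
    have h2 : none ∉ Z := fun h => by simpa using (Finset.mem_powersetCard.1 (Finset.mem_coe.1 hZ)).1 h
    have h3 : insert none Y = insert none Z := h
    rw [← Finset.erase_insert h1, h3, Finset.erase_insert h2]

/-- **The number of the sextet classes.** -/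
theorem ncard_S4 : S4.ncard = 3542 := by
  classical
  have h0 : ∀ X : Finset GolayPt, ∃ v : L2, X.card = 4 → v ∈ S4 ∧ ∀ c, pairL v c = ev X c := by
    intro X
    by_cases hX : X.card = 4
    · obtain ⟨v, h1, h2⟩ := exists_S4 hX
      exact ⟨v, fun _ => ⟨h1, h2⟩⟩
    · exact ⟨0, fun h => absurd h hX⟩
  choose vX hvX using h0
  have e : S4 = (fun p : Finset GolayPt × L2 => vX p.1 + p.2) '' (P4 ×ˢ ({0, f0} : Set L2)) := by
    ext v
    constructor
    · intro hv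
      obtain ⟨X, hX, h1⟩ := S4_tetrad hv
      obtain ⟨T, hT, -⟩ := exists_sx hX
      have h2 := hvX _ (hT.card (T none))
      rcases eq_or_of_pairL hv.1 h2.1.1 (fun c => by rw [h1, h2.2, hT.ev (T none)]) with h | h
      · exact ⟨(fib T (T none), 0), ⟨⟨hT.card _, mem_fib.2 rfl⟩, Or.inl rfl⟩, by rw [h]; exact add_zero _⟩
      · exact ⟨(fib T (T none), f0), ⟨⟨hT.card _, mem_fib.2 rfl⟩, Or.inr rfl⟩, h.symm⟩
    · rintro ⟨⟨X, a⟩, ⟨hX, rfl | rfl⟩, rfl⟩
      · show vX X + 0 ∈ S4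
        rw [add_zero]; exact (hvX X hX.1).1
      · exact S4_add (hvX X hX.1).1
  rw [e, Set.InjOn.ncard_image, Set.ncard_prod, ncard_P4, Set.ncard_pair f0_ne.symm]
  rintro ⟨X, a⟩ ⟨hX, ha⟩ ⟨Y, b⟩ ⟨hY, hb⟩ h
  have h' : vX X + a = vX Y + b := h
  have h1 : ∀ a ∈ ({0, f0} : Set L2), ∀ c, pairL a c = 0 := by
    rintro a (rfl | rfl) c
    · exact pairL_zero c
    · exact pairL_f0 c
  have h2 : X = Y := eq_of_ev hX.1.le hY.1.le (fun c => by
    have := congrArg (pairL · c) h'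
    simp only [pairL_add, h1 a ha, h1 b hb, add_zero] at this
    rw [← (hvX X hX.1).2, this, (hvX Y hY.1).2]) ⟨none, Finset.mem_inter.2 ⟨hX.2, hY.2⟩⟩
  subst h2
  rw [add_left_cancel h']

/-! ### double counting along an orbit -/

theorem dcG {H Ω : Type*} [Group H] [Finite H] (Rel : H → Ω → Prop) {X : Set H} {Ob : Set Ω} (hO : Ob.Finite) (ω₀ : Ω)
    {f : ℕ} (htr : ∀ ω ∈ Ob, ∃ g : H, ∀ s ∈ X, Rel s ω₀ → g * s * g⁻¹ ∈ X ∧ Rel (g * s * g⁻¹) ω)
    (hf : ∀ s ∈ X, {ω | ω ∈ Ob ∧ Rel s ω}.ncard ≤ f) :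
    Ob.ncard * {s | s ∈ X ∧ Rel s ω₀}.ncard ≤ X.ncard * f := by
  refine dc Rel (Set.toFinite _) hO (fun ω hω => ?_) hf
  obtain ⟨g, hg⟩ := htr ω hω
  exact ncard_conj_le g⁻¹ fun s hs => by rw [inv_inv]; exact hg s hs.1 hs.2

theorem exists_four {v : L2} (hv : IsType 4 v) : ∃ g : Co1, g • f0 = v := by
  obtain ⟨g, hg⟩ := IsType.trans (Or.inr (Or.inr rfl)) isType_f0 hv
  exact ⟨QuotientGroup.mk g, hg⟩

theorem fix_le {X : Set Co1} (hX : ∀ s ∈ X, ∀ g : Co1, g * s * g⁻¹ ∈ X) {n f m : ℕ} (hn : X.ncard ≤ n)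
    (hf : ∀ s ∈ X, fr s ≤ f) (hm : n * f < 8292375 * (m + 1)) : {s | s ∈ X ∧ s • f0 = f0}.ncard ≤ m := by
  have := finCo
  have := finL2
  have h := dcG (fun (s : Co1) (v : L2) => s • v = v) (X := X) (Ob := {x : L2 | IsType 4 x}) (Set.toFinite _) f0
    (f := f) (fun v hv => ?_) (fun s hs => ?_)
  · rw [ncard_four] at h
    have h1 := (h.trans (Nat.mul_le_mul_right _ hn)).trans_lt hm
    exact Nat.lt_succ_iff.1 (Nat.lt_of_mul_lt_mul_left h1)
  · obtain ⟨g, rfl⟩ := exists_four hv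
    exact ⟨g, fun s hs h => ⟨hX s hs g, by rw [mul_smul, inv_smul_smul, mul_smul, h]⟩⟩
  · refine le_trans ?_ (hf s hs)
    rw [fr_eq]
    exact Set.ncard_le_ncard (fun _ h => h.2) (Set.toFinite _)

theorem m2a : {s | s ∈ {g : Co1 | orderOf g = 2 ∧ 2 ^ 12 < fr g} ∧ s • f0 = f0}.ncard ≤ 368457 :=
  fix_le (fun s hs g => And.intro ((ord_conj g s).trans hs.1) (by rw [fr_conj]; exact hs.2)) n2a (fun _ hs => fr_two hs.1)
    (by norm_num)

theorem m2 : {s | s ∈ {g : Co1 | orderOf g = 2 ∧ fr g ≤ 2 ^ 12} ∧ s • f0 = f0}.ncard ≤ 6319021 := by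
  have := finCo
  exact fix_le (fun s hs g => And.intro ((ord_conj g s).trans hs.1) (by rw [fr_conj]; exact hs.2))
    (le_trans (Set.ncard_le_ncard (fun _ h => h.1) (Set.toFinite _)) n2) (fun _ hs => hs.2) (by norm_num)

theorem m3 : {s | s ∈ {g : Co1 | orderOf g = 3} ∧ s • f0 = f0}.ncard ≤ 3970977537 :=
  fix_le (fun s hs g => (ord_conj g s).trans hs) n3 (fun _ hs => fr_three hs) (by norm_num)

theorem n12' : {g : Co1 | orderOf g = 3 ∧ fr g = 2 ^ 12}.ncard ≤ 70726656000 := by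
  have := finCo
  exact le_trans (Set.ncard_le_ncard (fun _ h => And.intro h.1 (by rw [h.2]; norm_num)) (Set.toFinite _)) n12

theorem m12 : {s | s ∈ {g : Co1 | orderOf g = 3 ∧ fr g = 2 ^ 12} ∧ s • f0 = f0}.ncard ≤ 34935273 :=
  fix_le (fun s hs g => And.intro ((ord_conj g s).trans hs.1) (by rw [fr_conj]; exact hs.2)) n12' (fun _ hs => hs.2.le)
    (by norm_num)

/-- the orbit of a pair -/
theorem orb_ge {v : L2} (hv : v ∈ S4) : 29371592250 ≤ (MulAction.orbit Co1 (f0, v)).ncard := by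
  have := finL2
  have h := dc (fun (p : L2 × L2) (u : L2) => p.1 = u) (X := MulAction.orbit Co1 (f0, v)) (Ob := {x : L2 | IsType 4 x})
    (Set.toFinite _) (Set.toFinite _) (m := 3542) (f := 1) (fun u hu => ?_) (fun p _ => ?_)
  · rw [ncard_four] at h
    omega
  · obtain ⟨g, rfl⟩ := exists_four hu
    rw [← ncard_S4]
    refine ncard_le_of_inj (fun w => (g • f0, g • w)) (Set.toFinite _) (fun w hw => ⟨?_, rfl⟩)
      fun _ _ _ _ e => MulAction.injective g (congrArg Prod.snd e)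
    obtain ⟨s, hs, rfl⟩ := S4_trans hv hw
    exact ⟨g * s, Prod.ext (by show (g * s) • f0 = _; rw [mul_smul, smul_f0 hs]) (mul_smul g s v)⟩
  · exact (Set.ncard_le_one (Set.toFinite _)).2 fun a ha b hb => ha.2.symm.trans hb.2

theorem card_stab2 {v : L2} (hv : v ∈ S4) : Nat.card (MulAction.stabilizer Co1 (f0, v)) ≤ 141557760 := by
  have h1 := (MulAction.stabilizer Co1 (f0, v)).card_mul_index
  rw [MulAction.index_stabilizer, H68.CoMdl.card_co1] at h1
  have h2 := Nat.mul_le_mul_left (Nat.card (MulAction.stabilizer Co1 (f0, v))) (orb_ge hv)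
  omega

/-- the second relation -/
def R2 (s : Co1) (p : L2 × L2) : Prop := s • p.1 = p.2 ∧ p.1 + s • p.1 + s • s • p.1 = 0

theorem rot_le {v : L2} (hv : v ∈ S4) {X : Set Co1} (hX : ∀ s ∈ X, ∀ g : Co1, g * s * g⁻¹ ∈ X) {n f m : ℕ}
    (hn : X.ncard ≤ n) (hf : ∀ s ∈ X, kn s ≤ f) (hm : n * f < 29371592250 * (m + 1)) :
    {s | s ∈ X ∧ R2 s (f0, v)}.ncard ≤ m := by
  have := finCo
  have := finL2
  have h := dcG R2 (X := X) (Ob := MulAction.orbit Co1 (f0, v)) (Set.toFinite _) (f0, v)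
    (f := f) ?_ (fun s hs => ?_)
  · have h1 := (((Nat.mul_le_mul_right _ (orb_ge hv)).trans h).trans (Nat.mul_le_mul_right _ hn)).trans_lt hm
    exact Nat.lt_succ_iff.1 (Nat.lt_of_mul_lt_mul_left h1)
  · rintro _ ⟨g, rfl⟩
    refine ⟨g, fun s hs h => ⟨hX s hs g, ?_, ?_⟩⟩
    · show (g * s * g⁻¹) • g • f0 = g • v
      rw [mul_smul, inv_smul_smul, mul_smul, show s • f0 = v from h.1]
    · show g • f0 + (g * s * g⁻¹) • g • f0 + (g * s * g⁻¹) • (g * s * g⁻¹) • g • f0 = 0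
      simp only [mul_smul, inv_smul_smul]
      rw [← smul_add, ← smul_add, show f0 + s • f0 + s • s • f0 = 0 from h.2, smul_zero]
  · refine le_trans ?_ (hf s hs)
    exact ncard_le_of_inj Prod.fst (Set.toFinite _) (fun p hp => hp.2.2)
      fun p hp q hq e => Prod.ext e (by rw [← hp.2.1, ← hq.2.1, e])

theorem kn_conj' (g s : Co1) : kn (g * s * g⁻¹) = kn s :=
  le_antisymm (by simpa [mul_assoc] using kn_conj g⁻¹ (g * s * g⁻¹)) (kn_conj g s)

theorem pk18 {v : L2} (hv : v ∈ S4) :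
    {s | s ∈ {g : Co1 | orderOf g = 3 ∧ 2 ^ 18 < kn g} ∧ R2 s (f0, v)}.ncard ≤ 1765 :=
  rot_le hv (fun s hs g => And.intro ((ord_conj g s).trans hs.1) (by rw [kn_conj']; exact hs.2)) nk18 (fun s _ => kn_le s)
    (by norm_num)

theorem pk16 {v : L2} (hv : v ∈ S4) :
    {s | s ∈ {g : Co1 | orderOf g = 3 ∧ 2 ^ 16 < kn g ∧ kn g ≤ 2 ^ 18} ∧ R2 s (f0, v)}.ncard ≤ 2945821 := by
  have := finCo
  exact rot_le hv (fun s hs g => And.intro ((ord_conj g s).trans hs.1) (by rw [kn_conj']; exact hs.2))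
    (le_trans (Set.ncard_le_ncard (fun _ h => And.intro h.1 h.2.1) (Set.toFinite _)) nk16) (fun s hs => hs.2.2)
    (by norm_num)

theorem pk {v : L2} (hv : v ∈ S4) :
    {s | s ∈ {g : Co1 | orderOf g = 3 ∧ kn g ≤ 2 ^ 16} ∧ R2 s (f0, v)}.ncard ≤ 17937787 := by
  have := finCo
  exact rot_le hv (fun s hs g => And.intro ((ord_conj g s).trans hs.1) (by rw [kn_conj']; exact hs.2))
    (le_trans (Set.ncard_le_ncard (fun _ h => h.1) (Set.toFinite _)) n3) (fun s hs => hs.2) (by norm_num)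

theorem p12 {v : L2} (hv : v ∈ S4) :
    {s | s ∈ {g : Co1 | orderOf g = 3 ∧ fr g = 2 ^ 12} ∧ R2 s (f0, v)}.ncard ≤ 9863 :=
  rot_le hv (fun s hs g => And.intro ((ord_conj g s).trans hs.1) (by rw [fr_conj]; exact hs.2)) n12'
    (fun _ hs => kn_twelve hs.2) (by norm_num)

/-! ### the centraliser of an involution -/

theorem cent_count {G : Type*} [Group G] [Finite G] {e : G} (he : orderOf e = 2) {r : ℕ} (hr : Odd r) :
    Nat.card G * {s | orderOf s = r ∧ s * e = e * s}.ncard ≤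
      {g : G | orderOf g = 2 * r}.ncard * Nat.card (centralizer ({e} : Set G)) := by
  have hco : Nat.Coprime r 2 := Nat.coprime_two_right.2 hr
  refine dc (fun g t : G => g ^ r = t * e * t⁻¹) (X := {g : G | orderOf g = 2 * r}) (Ob := Set.univ) (Set.toFinite _)
    (Set.toFinite _) (fun t _ => ?_) (fun g _ => ?_) |>.trans' (by rw [Set.ncard_univ])
  · obtain ⟨k, hk⟩ := hr
    have hee : e * e = 1 := by rw [← pow_two, ← he, pow_orderOf_eq_one]
    refine ncard_le_of_inj (fun s => t * (s * e) * t⁻¹) (Set.toFinite _) (fun s hs => ⟨?_, ?_⟩)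
      fun _ _ _ _ h => mul_right_cancel (mul_left_cancel (mul_right_cancel h))
    · show orderOf _ = _
      rw [ord_conj, (show Commute s e from hs.2).orderOf_mul_eq_mul_orderOf_of_coprime (by rw [hs.1, he]; exact hco),
        hs.1, he, mul_comm]
    · show (t * (s * e) * t⁻¹) ^ r = _
      rw [conj_pow, (show Commute s e from hs.2).mul_pow, ← hs.1, pow_orderOf_eq_one, hs.1, hk, pow_succ, pow_mul,
        pow_two, hee, one_pow, one_mul, one_mul]
  · refine ncard_le_of_quot fun a ha b hb => mem_centralizer_singleton_iff.2 ?_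
    have h : a * e * a⁻¹ = b * e * b⁻¹ := ha.2.symm.trans hb.2
    calc a⁻¹ * b * e = a⁻¹ * (b * e * b⁻¹) * b := by group
      _ = e * (a⁻¹ * b) := by rw [← h]; group

theorem co_count {o : golayCode} (Fo : H848.TenA.Facts o) {r n m : ℕ} (hr : Odd r)
    (hn : {g : Co1 | orderOf g = 2 * r}.ncard ≤ n) (hm : n * 89181388800 < NC * (m + 1)) :
    {s | orderOf s = r ∧ s ∈ CO o}.ncard ≤ m := by
  have := finCo
  have : Fact (Nat.Prime 2) := ⟨Nat.prime_two⟩
  have h := cent_count (e := eps o) (orderOf_eq_prime (by rw [pow_two, eps_mul_eps]) (H848.TenA.eps_ne Fo)) hr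
  rw [H68.CoMdl.card_co1] at h
  have h1 := (h.trans (Nat.mul_le_mul hn (Fo.card.trans (by norm_num : _ ≤ 89181388800)))).trans_lt hm
  refine le_trans (le_of_eq ?_) (Nat.lt_succ_iff.1 (Nat.lt_of_mul_lt_mul_left h1))
  simp only [mem_CO]

theorem co3 {o : golayCode} (Fo : H848.TenA.Facts o) : {s | orderOf s = 3 ∧ s ∈ CO o}.ncard ≤ 253940480 :=
  co_count Fo (by decide) n6 (by norm_num)

theorem co5 {o : golayCode} (Fo : H848.TenA.Facts o) : {s | orderOf s = 5 ∧ s ∈ CO o}.ncard ≤ 1012580352 :=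
  co_count Fo (by decide) n10 (by norm_num)

end Cfsg.Agent.SP.Mon.Two
end

-- part: SP/Mon/Two/Lift
section
/-! # S5755, the Monster, 2-local subgroups: counts in the centraliser of `z`

Lifts of the elements of `Co1`; the numbers of the elements of order 2, 3, 5 in the stabilisers of a frame. -/

set_option autoImplicit false
set_option linter.unusedSectionVars false

namespace Cfsg.Agent.SP.Mon.Two

open Cfsg
open Cfsg.Agent.MonsterU.Lam2
open Cfsg.Agent.MonsterU.CoFrameL2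
open Cfsg.Agent.MonsterU.Ch
open Cfsg.Agent.MonsterU.AmalGen (pre mem_pre EE)
open Cfsg.Agent.R2.H4.Mon.Frm Cfsg.Agent.R2.H4.Mon.GeoInst
open Cfsg.Agent.H848.Oct (eps CO mem_CO)
open Cfsg.Agent.H848.TenB (T)
open Cfsg.Agent.LThreeMB (fr fr_conj)
open Cfsg.Spor (Co1)
open Subgroup (centralizer mem_centralizer_singleton_iff)

variable {G : Type*} [Group G] [Finite G] {Q : Subgroup G} {z : G} {eta : G → L2}
  {pi : centralizer ({z} : Set G) →* Co1} {y τ : G}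

open Classical in
/-- the map to `Co1` as a function on the group -/
noncomputable def pp (pi : centralizer ({z} : Set G) →* Co1) (x : G) : Co1 :=
  if h : x ∈ centralizer ({z} : Set G) then pi ⟨x, h⟩ else 1

theorem pp_eq {x : G} (hx : x * z = z * x) : pp pi x = pi ⟨x, mem_centralizer_singleton_iff.2 hx⟩ :=
  dif_pos (mem_centralizer_singleton_iff.2 hx)

theorem pp_coe (c : centralizer ({z} : Set G)) : pp pi c = pi c := dif_pos c.2

theorem comm_inv {x : G} (hx : x * z = z * x) : x⁻¹ * z = z * x⁻¹ := (show Commute x z from hx).inv_left.eq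

theorem comm_mul {x w : G} (hx : x * z = z * x) (hw : w * z = z * w) : x * w * z = z * (x * w) :=
  ((show Commute x z from hx).mul_left hw).eq

theorem pp_mul {x w : G} (hx : x * z = z * x) (hw : w * z = z * w) : pp pi (x * w) = pp pi x * pp pi w := by
  rw [pp_eq hx, pp_eq hw, pp_eq (comm_mul hx hw), ← map_mul]; rfl

theorem pp_inv {x : G} (hx : x * z = z * x) : pp pi x⁻¹ = (pp pi x)⁻¹ := by
  rw [pp_eq hx, pp_eq (comm_inv hx), ← map_inv]; rfl

theorem pp_pow {x : G} (hx : x * z = z * x) (n : ℕ) : pp pi (x ^ n) = pp pi x ^ n := by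
  rw [pp_eq hx, pp_eq ((show Commute x z from hx).pow_left n).eq, ← map_pow]; rfl

section chart

variable (h : Chart Q z eta pi)
include h

theorem eta_pp {x q : G} (hx : x * z = z * x) (hq : q ∈ Q) : eta (x * q * x⁻¹) = pp pi x • eta q := by
  rw [pp_eq hx]; exact h.eta_conj ⟨x, _⟩ q hq

theorem pp_one {x : G} (hx : x * z = z * x) : pp pi x = 1 ↔ x ∈ Q := by
  rw [pp_eq hx]; exact h.pi_eq_one _

theorem pp_quot {x w : G} (hx : x * z = z * x) (hw : w * z = z * w) (e : pp pi x = pp pi w) : x⁻¹ * w ∈ Q := by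
  rw [← pp_one h (comm_mul (comm_inv hx) hw), pp_mul (comm_inv hx) hw, pp_inv hx, e, inv_mul_cancel]

theorem pp_surj (s : Co1) : ∃ c : G, c * z = z * c ∧ pp pi c = s := by
  obtain ⟨c, hc⟩ := h.pi_surj s
  exact ⟨c, mem_centralizer_singleton_iff.1 c.2, (pp_coe c).trans hc⟩

theorem ord_pp {r : ℕ} (hr : r.Prime) (h2 : r ≠ 2) {x : G} (hx : x * z = z * x) (ho : orderOf x = r) :
    orderOf (pp pi x) = r := by
  have := Fact.mk hr
  refine orderOf_eq_prime (by rw [← pp_pow hx, ← ho, pow_orderOf_eq_one, pp_one h (by simp)]; exact Q.one_mem)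
    fun h1 => h2 ?_
  have h3 := Subgroup.orderOf_dvd_natCard Q ((pp_one h hx).1 h1)
  rw [ho, h.card_Q] at h3
  exact (Nat.prime_dvd_prime_iff_eq hr Nat.prime_two).1 (hr.dvd_of_dvd_pow h3)

theorem lift0 (s : Co1) {X : Set G} (hX : ∀ x ∈ X, x * z = z * x ∧ pp pi x = s) : X.ncard ≤ 2 ^ 25 := by
  rw [← h.card_Q]
  exact ncard_le_of_quot fun a ha b hb => pp_quot h (hX a ha).1 (hX b hb).1 ((hX a ha).2.trans (hX b hb).2.symm)

theorem lift2 (s : Co1) {X : Set G} (hX : ∀ x ∈ X, x * z = z * x ∧ x * x = 1 ∧ pp pi x = s) : X.ncard ≤ 2 * fr s := by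
  have e : Nat.card (pre h (Fx s)) = 2 * fr s := H848.NormFour.card_pre h _
  rw [← e]
  refine ncard_le_of_quot fun a ha b hb => ?_
  obtain ⟨a1, a2, a3⟩ := hX a ha
  obtain ⟨b1, b2, b3⟩ := hX b hb
  have hq := pp_quot h a1 b1 (a3.trans b3.symm)
  refine ⟨hq, ?_⟩
  show s • eta (a⁻¹ * b) = eta (a⁻¹ * b)
  rw [← a3, ← eta_pp h a1 hq, ← h.eta_inv hq]
  congr 1
  rw [mul_inv_rev, inv_inv, inv_eq_of_mul_eq_one_left b2, mul_inv_cancel_left, inv_eq_of_mul_eq_one_left a2]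

theorem lift3 (s : Co1) {X : Set G} (hX : ∀ x ∈ X, x * z = z * x ∧ x ^ 3 = 1 ∧ pp pi x = s) : X.ncard ≤ kn s := by
  have := finL2
  rcases X.eq_empty_or_nonempty with rfl | ⟨a, ha⟩
  · simp
  obtain ⟨a1, a2, a3⟩ := hX a ha
  have hQ : ∀ b ∈ X, b * a⁻¹ ∈ Q := fun b hb => by
    have h1 := h.large.conj_mem a a1 _ (pp_quot h a1 (hX b hb).1 (a3.trans (hX b hb).2.2.symm))
    rwa [mul_inv_cancel_left] at h1
  refine ncard_le_of_inj (fun b => eta (b * a⁻¹)) (Set.toFinite _) (fun b hb => ?_) fun b hb c hc e => ?_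
  · have h1 := hQ b hb
    have h2 := h.large.conj_mem a a1 _ h1
    have h3 := h.large.conj_mem a a1 _ h2
    show eta (b * a⁻¹) + s • eta (b * a⁻¹) + s • s • eta (b * a⁻¹) = 0
    rw [← a3, ← eta_pp h a1 h1, ← eta_pp h a1 h2, ← h.eta_mul _ h1 _ h2, ← h.eta_mul _ (Q.mul_mem h1 h2) _ h3,
      ← h.eta_one]
    congr 1
    calc b * a⁻¹ * (a * (b * a⁻¹) * a⁻¹) * (a * (a * (b * a⁻¹) * a⁻¹) * a⁻¹) = b ^ 3 * (a ^ 3)⁻¹ := by
          simp only [pow_succ, pow_zero]; group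
      _ = 1 := by rw [(hX b hb).2.1, a2]; simp
  · rcases (h.eta_eq (hQ b hb) (hQ c hc)).1 e with h1 | h1
    · exact mul_right_cancel h1
    · exfalso
      have h2 : b = c * z := by
        calc b = b * a⁻¹ * a := by group
          _ = c * (a⁻¹ * z) * a := by rw [h1]; group
          _ = c * z := by rw [comm_inv a1]; group
      have h3 := (hX b hb).2.1
      rw [h2, (show Commute c z from (hX c hc).1).mul_pow, (hX c hc).2.1, one_mul, pow_succ, pow_two, h.large.z_sq,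
        one_mul] at h3
      exact h.large.z_ne h3

theorem lift_two {X : Set G} {P : Set Co1} {m f : ℕ} (hX : ∀ x ∈ X, x * z = z * x ∧ x * x = 1 ∧ pp pi x ∈ P)
    (hm : P.ncard ≤ m) (hf : ∀ s ∈ P, fr s ≤ f) : X.ncard ≤ m * (2 * f) := by
  have := finCo
  refine (fib_le (pp pi) (Set.toFinite _) (Set.toFinite _) (fun x hx => (hX x hx).2.2) fun s hs => ?_).trans
    (Nat.mul_le_mul_right _ hm)
  exact (lift2 h s fun x hx => ⟨(hX x hx.1).1, (hX x hx.1).2.1, hx.2⟩).trans (Nat.mul_le_mul_left _ (hf s hs))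

theorem lift_three {X : Set G} {P : Set Co1} {m f : ℕ} (hX : ∀ x ∈ X, x * z = z * x ∧ orderOf x = 3 ∧ pp pi x ∈ P)
    (hm : P.ncard ≤ m) (hf : ∀ s ∈ P, kn s ≤ f) : X.ncard ≤ m * f := by
  have := finCo
  refine (fib_le (pp pi) (Set.toFinite _) (Set.toFinite _) (fun x hx => (hX x hx).2.2) fun s hs => ?_).trans
    (Nat.mul_le_mul_right _ hm)
  exact (lift3 h s fun x hx => ⟨(hX x hx.1).1, by rw [← (hX x hx.1).2.1, pow_orderOf_eq_one], hx.2⟩).trans (hf s hs)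

theorem lift_all {X : Set G} {P : Set Co1} {m : ℕ} (hX : ∀ x ∈ X, x * z = z * x ∧ pp pi x ∈ P)
    (hm : P.ncard ≤ m) : X.ncard ≤ m * 2 ^ 25 := by
  have := finCo
  refine (fib_le (pp pi) (Set.toFinite _) (Set.toFinite _) (fun x hx => (hX x hx).2) fun s _ => ?_).trans
    (Nat.mul_le_mul_right _ hm)
  exact lift0 h s fun x hx => ⟨(hX x hx.1).1, hx.2⟩

theorem ord_pp_two {x : G} (hx : x * z = z * x) (h2 : x * x = 1) (hQ : x ∉ Q) : orderOf (pp pi x) = 2 := by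
  have : Fact (Nat.Prime 2) := ⟨Nat.prime_two⟩
  refine orderOf_eq_prime ?_ fun h1 => hQ ((pp_one h hx).1 h1)
  rw [← pp_pow hx, pow_two, h2, pp_one h (by simp)]
  exact Q.one_mem

end chart

section frame

variable (F : Fr Q z eta pi y τ)
include F

theorem pp_f0 {x : G} (hx : x * z = z * x) (hy : x * y * x⁻¹ = y ∨ x * y * x⁻¹ = z * y) : pp pi x • f0 = f0 := by
  rw [← F.hy, ← eta_pp F.ch hx F.hyQ]
  rcases hy with h | h <;> rw [h]
  rw [F.ch.eta_mul _ F.ch.large.z_mem _ F.hyQ, F.ch.eta_z, zero_add]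

/-- **The involutions fixing a flag.** -/
theorem inv_std : {x : G | x * x = 1 ∧ x * z = z * x ∧ (x * y * x⁻¹ = y ∨ x * y * x⁻¹ = z * y)}.ncard ≤
    100093370368 := by
  refine le_trans (ncard_cases (Y := (Q : Set G))
    (Z := {x : G | (x * x = 1 ∧ x * z = z * x ∧ (x * y * x⁻¹ = y ∨ x * y * x⁻¹ = z * y)) ∧ x ∉ Q})
    (Set.toFinite _) (Set.toFinite _) fun x hx => (em _).imp id fun h => ⟨hx, h⟩) ?_
  have h1 : (Q : Set G).ncard = 2 ^ 25 := F.ch.card_Q
  have h2 := ncard_cases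
    (X := {x : G | (x * x = 1 ∧ x * z = z * x ∧ (x * y * x⁻¹ = y ∨ x * y * x⁻¹ = z * y)) ∧ x ∉ Q})
    (Y := {x : G | ((x * x = 1 ∧ x * z = z * x ∧ (x * y * x⁻¹ = y ∨ x * y * x⁻¹ = z * y)) ∧ x ∉ Q) ∧ 2 ^ 12 < fr (pp pi x)})
    (Z := {x : G | ((x * x = 1 ∧ x * z = z * x ∧ (x * y * x⁻¹ = y ∨ x * y * x⁻¹ = z * y)) ∧ x ∉ Q) ∧ fr (pp pi x) ≤ 2 ^ 12})
    (Set.toFinite _) (Set.toFinite _) fun x hx => (lt_or_ge _ _).imp (fun h => ⟨hx, h⟩) fun h => ⟨hx, h⟩
  have h3 := lift_two F.ch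
    (X := {x : G | ((x * x = 1 ∧ x * z = z * x ∧ (x * y * x⁻¹ = y ∨ x * y * x⁻¹ = z * y)) ∧ x ∉ Q) ∧ 2 ^ 12 < fr (pp pi x)})
    (fun x hx => ⟨hx.1.1.2.1, hx.1.1.1, And.intro (And.intro (ord_pp_two F.ch hx.1.1.2.1 hx.1.1.1 hx.1.2) hx.2)
      (pp_f0 F hx.1.1.2.1 hx.1.1.2.2)⟩) m2a (fun s hs => fr_two hs.1.1)
  have h4 := lift_two F.ch
    (X := {x : G | ((x * x = 1 ∧ x * z = z * x ∧ (x * y * x⁻¹ = y ∨ x * y * x⁻¹ = z * y)) ∧ x ∉ Q) ∧ fr (pp pi x) ≤ 2 ^ 12})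
    (fun x hx => ⟨hx.1.1.2.1, hx.1.1.1, And.intro (And.intro (ord_pp_two F.ch hx.1.1.2.1 hx.1.1.1 hx.1.2) hx.2)
      (pp_f0 F hx.1.1.2.1 hx.1.1.2.2)⟩) m2 (fun s hs => hs.1.2)
  omega

/-- an invariant set of involutions of `C(z)` -/
theorem inv_class {A : G → Prop} (hA : ∀ x g, A x → A (g * x * g⁻¹)) (h2 : ∀ x, A x → x * x = 1) {n m : ℕ}
    (hn : {x | A x ∧ x * z = z * x}.ncard ≤ n) (hm : n * 2 ^ 16 < 8292375 * (m + 1)) :
    {x | A x ∧ x * z = z * x ∧ x * y = y * x}.ncard ≤ 2 ^ 25 + m := by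
  have := finL2
  have h1 : (Q : Set G).ncard = 2 ^ 25 := F.ch.card_Q
  have h3 := dcG (fun (x : G) (v : L2) => pp pi x • v = v) (X := {x | (A x ∧ x * z = z * x) ∧ x ∉ Q})
    (Ob := {x : L2 | IsType 4 x}) (Set.toFinite _) f0 (f := 2 ^ 16) (fun v hv => ?_) (fun x hx => ?_)
  · rw [ConwayFacts.NormL2.ncard_four] at h3
    have h4 := (h3.trans (Nat.mul_le_mul_right _ (le_trans (Set.ncard_le_ncard (fun _ h => h.1) (Set.toFinite _))
      hn))).trans_lt hm
    have h5 := Nat.lt_succ_iff.1 (Nat.lt_of_mul_lt_mul_left h4)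
    refine le_trans (ncard_cases (Y := (Q : Set G)) (Set.toFinite _) (Set.toFinite _) fun x hx => ?_)
      (Nat.add_le_add h1.le h5)
    exact (em _).imp id fun h => ⟨⟨⟨hx.1, hx.2.1⟩, h⟩, pp_f0 F hx.2.1 (Or.inl (mul_inv_eq_iff_eq_mul.2 hx.2.2))⟩
  · obtain ⟨g, rfl⟩ := exists_four hv
    obtain ⟨c, hc, rfl⟩ := pp_surj F.ch g
    refine ⟨c, fun x hx e => ⟨⟨⟨hA x c hx.1.1, comm_mul (comm_mul hc hx.1.2) (comm_inv hc)⟩, fun h => hx.2 ?_⟩, ?_⟩⟩
    · have := F.ch.large.conj_mem _ (comm_inv hc) _ h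
      simpa [mul_assoc] using this
    · rw [pp_mul (comm_mul hc hx.1.2) (comm_inv hc), pp_mul hc hx.1.2, pp_inv hc, mul_smul, inv_smul_smul, mul_smul, e]
  · refine le_trans ?_ (fr_two (ord_pp_two F.ch hx.1.2 (h2 x hx.1.1) hx.2))
    rw [fr_eq]
    exact Set.ncard_le_ncard (fun _ h => h.2) (Set.toFinite _)

/-- **The elements of order 3 centralising a line.** -/
theorem three_std : {x : G | orderOf x = 3 ∧ x * z = z * x ∧ x * y = y * x}.ncard ≤ 3970977537 * 2 ^ 18 :=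
  lift_three F.ch (fun x hx => ⟨hx.2.1, hx.1, And.intro (ord_pp F.ch Nat.prime_three (by norm_num) hx.2.1 hx.1)
    (pp_f0 F hx.2.1 (Or.inl (mul_inv_eq_iff_eq_mul.2 hx.2.2)))⟩) m3 fun _ hs => kn_of_fix hs.1 f0_ne hs.2

theorem three_stdA {B : G → Prop} (hB : ∀ x, x * z = z * x → orderOf x = 3 → B x → fr (pp pi x) = 2 ^ 12) :
    {x : G | (orderOf x = 3 ∧ B x) ∧ x * z = z * x ∧ x * y = y * x}.ncard ≤ 34935273 * 2 ^ 12 :=
  lift_three F.ch (fun x hx => ⟨hx.2.1, hx.1.1, And.intro (And.intro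
    (ord_pp F.ch Nat.prime_three (by norm_num) hx.2.1 hx.1.1) (hB x hx.2.1 hx.1.1 hx.1.2))
    (pp_f0 F hx.2.1 (Or.inl (mul_inv_eq_iff_eq_mul.2 hx.2.2)))⟩) m12 fun _ hs => kn_twelve hs.1.2

theorem pp_R2 {w x : G} (hw : w ∈ Q) (hx : x * z = z * x) (h1 : x * y * x⁻¹ = w) (h2 : y * w * (x * w * x⁻¹) = 1) :
    R2 (pp pi x) (f0, eta w) := by
  have h3 : pp pi x • f0 = eta w := by rw [← F.hy, ← eta_pp F.ch hx F.hyQ, h1]
  refine ⟨h3, ?_⟩
  show f0 + pp pi x • f0 + pp pi x • pp pi x • f0 = 0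
  rw [h3, ← eta_pp F.ch hx hw, ← F.hy, ← F.ch.eta_mul _ F.hyQ _ hw,
    ← F.ch.eta_mul _ (Q.mul_mem F.hyQ hw) _ (F.ch.large.conj_mem _ hx _ hw), h2, F.ch.eta_one]

/-- **The elements of order 3 rotating a line.** -/
theorem rot_std {w : G} (hw : w ∈ Q) (h4 : eta w ∈ S4) :
    {x : G | orderOf x = 3 ∧ x * z = z * x ∧ x * y * x⁻¹ = w ∧ y * w * (x * w * x⁻¹) = 1}.ncard ≤ 1977411895296 := by
  set X := {x : G | orderOf x = 3 ∧ x * z = z * x ∧ x * y * x⁻¹ = w ∧ y * w * (x * w * x⁻¹) = 1}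
  have ho : ∀ x ∈ X, orderOf (pp pi x) = 3 := fun x hx => ord_pp F.ch Nat.prime_three (by norm_num) hx.2.1 hx.1
  have hr : ∀ x ∈ X, R2 (pp pi x) (f0, eta w) := fun x hx => pp_R2 F hw hx.2.1 hx.2.2.1 hx.2.2.2
  have h1 := ncard_cases (X := X) (Y := {x | x ∈ X ∧ 2 ^ 18 < kn (pp pi x)}) (Z := {x | x ∈ X ∧ kn (pp pi x) ≤ 2 ^ 18})
    (Set.toFinite _) (Set.toFinite _) fun x hx => (lt_or_ge _ _).imp (fun h => ⟨hx, h⟩) fun h => ⟨hx, h⟩
  have h2 := ncard_cases (X := {x | x ∈ X ∧ kn (pp pi x) ≤ 2 ^ 18})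
    (Y := {x | x ∈ X ∧ 2 ^ 16 < kn (pp pi x) ∧ kn (pp pi x) ≤ 2 ^ 18}) (Z := {x | x ∈ X ∧ kn (pp pi x) ≤ 2 ^ 16})
    (Set.toFinite _) (Set.toFinite _) fun x hx => (lt_or_ge _ _).imp (fun h => ⟨hx.1, h, hx.2⟩) fun h => ⟨hx.1, h⟩
  have h3 := lift_three F.ch (X := {x | x ∈ X ∧ 2 ^ 18 < kn (pp pi x)})
    (fun x hx => ⟨hx.1.2.1, hx.1.1, And.intro (And.intro (ho x hx.1) hx.2) (hr x hx.1)⟩) (pk18 h4) fun s _ => kn_le s
  have h5 := lift_three F.ch (X := {x | x ∈ X ∧ 2 ^ 16 < kn (pp pi x) ∧ kn (pp pi x) ≤ 2 ^ 18})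
    (fun x hx => ⟨hx.1.2.1, hx.1.1, And.intro (And.intro (ho x hx.1) hx.2) (hr x hx.1)⟩) (pk16 h4) fun s hs => hs.1.2.2
  have h6 := lift_three F.ch (X := {x | x ∈ X ∧ kn (pp pi x) ≤ 2 ^ 16})
    (fun x hx => ⟨hx.1.2.1, hx.1.1, And.intro (And.intro (ho x hx.1) hx.2) (hr x hx.1)⟩) (pk h4) fun s hs => hs.1.2
  omega

theorem rot_stdA {B : G → Prop} (hB : ∀ x, x * z = z * x → orderOf x = 3 → B x → fr (pp pi x) = 2 ^ 12)
    {w : G} (hw : w ∈ Q) (h4 : eta w ∈ S4) :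
    {x : G | (orderOf x = 3 ∧ B x) ∧ x * z = z * x ∧ x * y * x⁻¹ = w ∧ y * w * (x * w * x⁻¹) = 1}.ncard ≤
      9863 * 2 ^ 12 :=
  lift_three F.ch (fun x hx => ⟨hx.2.1, hx.1.1, And.intro (And.intro
    (ord_pp F.ch Nat.prime_three (by norm_num) hx.2.1 hx.1.1) (hB x hx.2.1 hx.1.1 hx.1.2))
    (pp_R2 F hw hx.2.1 hx.2.2.1 hx.2.2.2)⟩) (p12 h4) fun _ hs => kn_twelve hs.1.2

/-- **The centraliser of a line.** -/
theorem cent_line : {x : G | x * z = z * x ∧ x * y = y * x}.ncard ≤ 501397585920 * 2 ^ 25 :=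
  lift_all F.ch (P := (MonsterU.CoFrameL2.F : Set Co1))
    (fun x hx => ⟨hx.1, (mem_F_iff _).2 (pp_f0 F hx.1 (Or.inl (mul_inv_eq_iff_eq_mul.2 hx.2)))⟩)
    (le_of_eq MonsterU.CoFrameF.card_F)

/-- **The centraliser of a plane.** -/
theorem cent_plane {w : G} (hw : w ∈ Q) (h4 : eta w ∈ S4) :
    Nat.card (centralizer ({z, y, w} : Set G)) ≤ 141557760 * 2 ^ 23 := by
  let K0 : Subgroup G := ((MulAction.stabilizer Co1 (f0, eta w)).comap pi).map (centralizer ({z} : Set G)).subtype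
  have hK0 : ∀ x, x ∈ K0 ↔ x * z = z * x ∧ pp pi x • f0 = f0 ∧ pp pi x • eta w = eta w := by
    intro x
    constructor
    · rintro ⟨c, hc, rfl⟩
      have h1 : pi c • (f0, eta w) = (f0, eta w) := hc
      refine ⟨mem_centralizer_singleton_iff.1 c.2, ?_⟩
      rw [Subgroup.coe_subtype, pp_coe]
      exact Prod.mk.inj h1
    · rintro ⟨h1, h2, h3⟩
      rw [pp_eq h1] at h2 h3
      exact ⟨⟨x, mem_centralizer_singleton_iff.2 h1⟩, show _ • (f0, eta w) = (f0, eta w) from Prod.ext h2 h3, rfl⟩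
  have hQ : ∀ q ∈ Q, q ∈ K0 := fun q hq => by
    have h1 := F.ch.large.comm_z q hq
    rw [hK0, (pp_one F.ch h1).2 hq, one_smul, one_smul]
    exact ⟨h1, rfl, rfl⟩
  have c0 : Nat.card K0 ≤ 141557760 * 2 ^ 25 :=
    lift_all F.ch (X := (K0 : Set G)) (P := (MulAction.stabilizer Co1 (f0, eta w) : Set Co1))
      (fun x hx => ⟨((hK0 x).1 hx).1, Prod.ext ((hK0 x).1 hx).2.1 ((hK0 x).1 hx).2.2⟩) (card_stab2 h4)
  have nd : ∀ v : L2, v ≠ 0 → ∃ u, bf u v = 1 := fun v hv => by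
    by_contra hn
    push Not at hn
    exact hv (bf_nondeg fun u => by rw [bf_comm]; exact (H848.TrioU.zero_or_one _).resolve_right (hn u))
  obtain ⟨u, hu⟩ := nd f0 f0_ne
  obtain ⟨u', hu1, hu2⟩ : ∃ u', bf u' f0 = 0 ∧ bf u' (eta w) = 1 := by
    obtain ⟨a, ha⟩ := nd (eta w) fun e => h4.2.1 (e ▸ W1.zero_mem)
    obtain ⟨b, hb⟩ := nd (eta w + f0) fun e => h4.2.1 (by rw [eq_of_add_eq_zero e]; exact f0_mem_W1)
    rw [bf_add_right] at hb
    rcases H848.TrioU.zero_or_one (bf a f0) with h1 | h1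
    · exact ⟨a, h1, ha⟩
    rcases H848.TrioU.zero_or_one (bf b f0) with h2 | h2
    · exact ⟨b, h2, by rwa [h2, add_zero] at hb⟩
    · refine ⟨a + b, by rw [bf_add_left, h1, h2]; rfl, ?_⟩
      rw [h2, add_eq_right] at hb
      rw [bf_add_left, ha, hb, add_zero]
  obtain ⟨q, hq, rfl⟩ := F.ch.eta_surj u
  obtain ⟨q', hq', rfl⟩ := F.ch.eta_surj u'
  have c1 : 2 * Nat.card (K0 ⊓ centralizer ({y} : Set G) : Subgroup G) ≤ Nat.card K0 :=
    two_mul_card_le inf_le_left (hQ q hq) fun h => by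
      have h1 := (F.ch.comm_iff hq F.hyQ).1 (mem_centralizer_singleton_iff.1 h.2)
      rw [F.hy, hu] at h1
      exact one_ne_zero h1
  have c2 : 2 * Nat.card (centralizer ({z, y, w} : Set G)) ≤ Nat.card (K0 ⊓ centralizer ({y} : Set G) : Subgroup G) := by
    refine two_mul_card_le (x := q') (fun x hx => ?_) ⟨hQ q' hq', mem_centralizer_singleton_iff.2
      ((F.ch.comm_iff hq' F.hyQ).2 (by rw [F.hy]; exact hu1))⟩ fun h => ?_
    · rw [Subgroup.mem_centralizer_iff] at hx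
      have h1 := (hx z (by simp)).symm
      have h2 := (hx y (by simp)).symm
      have h3 := (hx w (by simp)).symm
      refine ⟨(hK0 x).2 ⟨h1, pp_f0 F h1 (Or.inl (mul_inv_eq_iff_eq_mul.2 h2)), ?_⟩, mem_centralizer_singleton_iff.2 h2⟩
      rw [← eta_pp F.ch h1 hw, h3, mul_inv_cancel_right]
    · have h1 := (F.ch.comm_iff hq' hw).1 (Subgroup.mem_centralizer_iff.1 h w (by simp)).symm
      rw [hu2] at h1
      exact one_ne_zero h1
  omega

/-! ### the ark -/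

variable {o : golayCode} (Fo : H848.TenA.Facts o) (hE : TE F.ch τ)
include Fo hE

theorem pp_CO {x : G} (hx : x * z = z * x) (hN : x ∈ Subgroup.normalizer (T F.ch o : Set G)) : pp pi x ∈ CO o := by
  rw [pp_eq hx]
  exact (H848.TenC.mem_N_iff F.ch Fo F.hyQ F.hy F.τz F.τy hE _).1 hN

theorem ark_all : {x : G | x * z = z * x ∧ x ∈ Subgroup.normalizer (T F.ch o : Set G)}.ncard ≤ 89181388800 * 2 ^ 25 :=
  lift_all F.ch (P := (CO o : Set Co1)) (fun x hx => ⟨hx.1, pp_CO F Fo hE hx.1 hx.2⟩) (Fo.card.trans (by norm_num))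

theorem ark_five : {x : G | orderOf x = 5 ∧ x * z = z * x ∧ x ∈ Subgroup.normalizer (T F.ch o : Set G)}.ncard ≤
    1012580352 * 2 ^ 25 :=
  lift_all F.ch (fun x hx => ⟨hx.2.1, And.intro (ord_pp F.ch Nat.prime_five (by norm_num) hx.2.1 hx.1)
    (pp_CO F Fo hE hx.2.1 hx.2.2)⟩) (co5 Fo)

theorem ark_three : {x : G | orderOf x = 3 ∧ x * z = z * x ∧ x ∈ Subgroup.normalizer (T F.ch o : Set G)}.ncard ≤
    3091200 * 2 ^ 24 + 253940480 * 2 ^ 18 := by
  set X := {x : G | orderOf x = 3 ∧ x * z = z * x ∧ x ∈ Subgroup.normalizer (T F.ch o : Set G)}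
  have ho : ∀ x ∈ X, orderOf (pp pi x) = 3 := fun x hx => ord_pp F.ch Nat.prime_three (by norm_num) hx.2.1 hx.1
  have := finCo
  refine le_trans (ncard_cases (X := X) (Y := {x | x ∈ X ∧ 2 ^ 18 < kn (pp pi x)})
    (Z := {x | x ∈ X ∧ kn (pp pi x) ≤ 2 ^ 18})
    (Set.toFinite _) (Set.toFinite _) fun x hx => (lt_or_ge _ _).imp (fun h => ⟨hx, h⟩) fun h => ⟨hx, h⟩)
    (Nat.add_le_add ?_ ?_)
  · exact lift_three F.ch (fun x hx => ⟨hx.1.2.1, hx.1.1, And.intro (ho x hx.1) hx.2⟩) nk18 fun s _ => kn_le s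
  · exact lift_three F.ch (P := {s | (orderOf s = 3 ∧ s ∈ CO o) ∧ kn s ≤ 2 ^ 18})
      (fun x hx => ⟨hx.1.2.1, hx.1.1, ⟨ho x hx.1, pp_CO F Fo hE hx.1.2.1 hx.1.2.2⟩, hx.2⟩)
      (le_trans (Set.ncard_le_ncard (fun _ h => h.1) (Set.toFinite _)) (co3 Fo)) fun s hs => hs.2

theorem ark_threeA {B : G → Prop} (hB : ∀ x, x * z = z * x → orderOf x = 3 → B x → fr (pp pi x) = 2 ^ 12) :
    {x : G | (orderOf x = 3 ∧ B x) ∧ x * z = z * x ∧ x ∈ Subgroup.normalizer (T F.ch o : Set G)}.ncard ≤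
      253940480 * 2 ^ 12 := by
  have := finCo
  exact lift_three F.ch (P := {s | (orderOf s = 3 ∧ s ∈ CO o) ∧ fr s = 2 ^ 12})
    (fun x hx => ⟨hx.2.1, hx.1.1, ⟨ord_pp F.ch Nat.prime_three (by norm_num) hx.2.1 hx.1.1,
      pp_CO F Fo hE hx.2.1 hx.2.2⟩, hB x hx.2.1 hx.1.1 hx.1.2⟩)
    (le_trans (Set.ncard_le_ncard (fun _ h => h.1) (Set.toFinite _)) (co3 Fo)) fun s hs => kn_twelve hs.2

end frame

end Cfsg.Agent.SP.Mon.Two
end

private theorem dce_54618fef7a2f : _root_.True := by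
  try have : _root_.True := by simp only [_root_.Cfsg.Agent.SP.Mon.Two.kn.eq_1]
  exact _root_.True.intro
end

-- part: SP/Mon/L3B/Gen
section
set_option linter.all false
open scoped Cfsg.Agent.FastGrp

/-! # S5755, the Monster, box `L3B`: elementary abelian 3-groups -/

set_option autoImplicit false
set_option linter.style.haveILetI false

namespace Cfsg.Agent.SP.Mon.L3B

open Subgroup

variable {T : Type*} [Group T]

/-- elementary abelian of exponent three -/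
structure EA (V : Subgroup T) : Prop where
  pow : ∀ v ∈ V, v ^ 3 = 1
  comm : ∀ v ∈ V, ∀ w ∈ V, v * w = w * v

theorem EA.mono {V W : Subgroup T} (h : EA V) (hW : W ≤ V) : EA W :=
  ⟨fun v hv => h.pow v (hW hv), fun v hv w hw => h.comm v (hW hv) w (hW hw)⟩

theorem inv_eq_sq {g : T} (hg : g ^ 3 = 1) : g⁻¹ = g ^ 2 := inv_eq_of_mul_eq_one_right (by rw [← pow_succ', hg])

theorem ne_inv {g : T} (hg : g ^ 3 = 1) (h1 : g ≠ 1) : g ≠ g⁻¹ := fun e => h1 (by
  rw [pow_succ, pow_two] at hg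
  rw [← hg, eq_comm, mul_eq_right]
  exact mul_eq_one_iff_eq_inv.2 e)

/-- `K ⟨g⟩` -/
def adj (K : Subgroup T) (g : T) (hg : g ^ 3 = 1) (hc : ∀ c ∈ K, g * c = c * g) : Subgroup T where
  carrier := {w | ∃ c ∈ K, ∃ i : ℕ, w = c * g ^ i}
  one_mem' := ⟨1, K.one_mem, 0, by simp⟩
  mul_mem' := by
    rintro _ _ ⟨c, h1, i, rfl⟩ ⟨d, h2, j, rfl⟩
    refine ⟨c * d, K.mul_mem h1 h2, i + j, ?_⟩
    rw [mul_assoc, ← mul_assoc (g ^ i), ((show Commute g d from hc d h2).pow_left i).eq, pow_add]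
    simp only [mul_assoc]
  inv_mem' := by
    rintro _ ⟨c, h1, i, rfl⟩
    refine ⟨c⁻¹, K.inv_mem h1, 2 * i, ?_⟩
    rw [mul_inv_rev, ← inv_pow, inv_eq_sq hg, ← pow_mul,
      ((show Commute g c⁻¹ from hc _ (K.inv_mem h1)).pow_left _).eq]

theorem mem_adj {K : Subgroup T} {g : T} {hg : g ^ 3 = 1} {hc : ∀ c ∈ K, g * c = c * g} {w : T} (h : w ∈ adj K g hg hc) :
    ∃ c ∈ K, w = c ∨ w = c * g ∨ w = c * g ^ 2 := by
  obtain ⟨c, h1, i, rfl⟩ := h
  refine ⟨c, h1, ?_⟩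
  rw [← Nat.div_add_mod i 3, pow_add, pow_mul, hg, one_pow, one_mul]
  have := Nat.mod_lt i (show 0 < 3 by norm_num)
  generalize i % 3 = j at this
  interval_cases j <;> simp

theorem le_adj {K : Subgroup T} {g : T} {hg : g ^ 3 = 1} {hc : ∀ c ∈ K, g * c = c * g} : K ≤ adj K g hg hc :=
  fun c h => ⟨c, h, 0, by simp⟩

theorem self_adj {K : Subgroup T} {g : T} {hg : g ^ 3 = 1} {hc : ∀ c ∈ K, g * c = c * g} : g ∈ adj K g hg hc :=
  ⟨1, K.one_mem, 1, by simp⟩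

/-- a hyperplane missing a given element -/
theorem hyper [Finite T] {W : Subgroup T} (h : EA W) {x : T} (h1 : x ≠ 1) :
    ∃ U ≤ W, x ∉ U ∧ Nat.card W ≤ 3 * Nat.card U := by
  obtain ⟨U, ⟨hUW, hxU⟩, hmax⟩ := exists_maximal_of_wellFoundedGT (fun U : Subgroup T => U ≤ W ∧ x ∉ U)
    ⟨⊥, bot_le, by simpa using h1⟩
  refine ⟨U, hUW, hxU, ?_⟩
  have h2 := Two.cov (fun w p => p⁻¹ * w ∈ U) (X := (W : Set T)) (P := {1, x, x ^ 2}) (Set.toFinite _) (Set.toFinite _)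
    (f := Nat.card U) (fun w hw => ?_) fun p _ => Two.ncard_le_of_quot fun a ha b hb => by
      rw [show a⁻¹ * b = (p⁻¹ * a)⁻¹ * (p⁻¹ * b) by group]
      exact U.mul_mem (U.inv_mem ha.2) hb.2
  · rw [← Nat.card_coe_set_eq, SetLike.coe_sort_coe] at h2
    exact h2.trans (Nat.mul_le_mul_right _ ((Set.ncard_insert_le _ _).trans
      (Nat.succ_le_succ ((Set.ncard_insert_le _ _).trans (by simp)))))
  · have hc : ∀ c ∈ U, w * c = c * w := fun c hc => h.comm w hw c (hUW hc)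
    by_cases h3 : x ∈ adj U w (h.pow w hw) hc
    · obtain ⟨c, h4, e | e | e⟩ := mem_adj h3
      · exact absurd (e ▸ h4) hxU
      · exact ⟨x, by simp, by rw [e, ← hc c h4]; simpa using h4⟩
      · refine ⟨x ^ 2, by simp, ?_⟩
        rw [e, ((show Commute w c from hc c h4).pow_left 2).symm.mul_pow, ← pow_mul, show 2 * 2 = 3 + 1 from rfl,
          pow_succ w, h.pow w hw, one_mul, ← ((show Commute w c from hc c h4).pow_right 2).eq]
        simpa using U.pow_mem h4 2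
    · refine ⟨1, by simp, ?_⟩
      have h4 : adj U w (h.pow w hw) hc ≤ U := hmax ⟨?_, h3⟩ le_adj
      · simpa using h4 self_adj
      · rintro _ ⟨c, h4, i, rfl⟩
        exact W.mul_mem (hUW h4) (W.pow_mem hw i)

/-- an involution normalising `V` centralises or inverts a large subgroup -/
theorem split [Finite T] {V : Subgroup T} (h : EA V) {t : T} (ht : t * t = 1) (hn : ∀ v ∈ V, t * v * t⁻¹ ∈ V) :
    ∃ W ≤ V, (∀ v ∈ W, t * v = v * t ∨ t * v = v⁻¹ * t) ∧ Nat.card V ≤ Nat.card W * Nat.card W := by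
  let W : Subgroup T :=
    { carrier := {v | v ∈ V ∧ t * v = v⁻¹ * t}
      one_mem' := ⟨V.one_mem, by simp⟩
      mul_mem' := by
        rintro a b ⟨ha, ea⟩ ⟨hb, eb⟩
        refine ⟨V.mul_mem ha hb, ?_⟩
        rw [← mul_assoc, ea, mul_assoc, eb, h.comm a ha b hb, mul_inv_rev, mul_assoc]
      inv_mem' := by
        rintro a ⟨ha, ea⟩
        refine ⟨V.inv_mem ha, ?_⟩
        calc t * a⁻¹ = a * (a⁻¹ * t) * a⁻¹ := by group
          _ = a⁻¹⁻¹ * t := by rw [← ea]; group }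
  have hti : t⁻¹ = t := inv_eq_of_mul_eq_one_right ht
  have h1 := Odd.ncard_le_mul (Y := (V : Set T)) (Z := ((V ⊓ centralizer ({t} : Set T) : Subgroup T) : Set T))
    (Set.toFinite _) (fun v => v * (t * v * t⁻¹)) W (fun v hv => ⟨V.mul_mem hv (hn v hv), by
      refine mem_centralizer_singleton_iff.2 ?_
      calc v * (t * v * t⁻¹) * t = (t * t) * v * t * v := by rw [ht]; group
        _ = t * (t * v * t⁻¹ * v) := by rw [hti]; group
        _ = t * (v * (t * v * t⁻¹)) := by rw [h.comm v hv _ (hn v hv)]⟩) fun a ha b hb e => by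
      refine ⟨V.mul_mem (V.inv_mem ha) hb, ?_⟩
      have e' : a * (t * a * t⁻¹) = b * (t * b * t⁻¹) := e
      calc t * (a⁻¹ * b) = (t * a * t⁻¹)⁻¹ * b⁻¹ * (b * (t * b * t⁻¹)) * t := by group
        _ = (t * a * t⁻¹)⁻¹ * ((b⁻¹ * a) * (t * a * t⁻¹)) * t := by rw [← e']; group
        _ = (a⁻¹ * b)⁻¹ * t := by rw [h.comm _ (V.mul_mem (V.inv_mem hb) ha) _ (hn a ha)]; group
  rw [← Nat.card_coe_set_eq, ← Nat.card_coe_set_eq, SetLike.coe_sort_coe, SetLike.coe_sort_coe] at h1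
  rcases le_total (Nat.card W) (Nat.card (V ⊓ centralizer ({t} : Set T) : Subgroup T)) with h2 | h2
  · exact ⟨_, inf_le_left, fun v hv => Or.inl (mem_centralizer_singleton_iff.1 hv.2).symm,
      h1.trans (Nat.mul_le_mul_left _ h2)⟩
  · exact ⟨W, fun v hv => hv.1, fun v hv => Or.inr hv.2, h1.trans (Nat.mul_le_mul_right _ h2)⟩

theorem nil_three {M : Type*} [Group M] [Finite M] (τ : M →* M) (h : ∀ v, τ (τ (τ v)) = 1) :
    Nat.card M ≤ Nat.card τ.ker * (Nat.card (τ.range ⊓ τ.ker : Subgroup M) * Nat.card (τ.range ⊓ τ.ker : Subgroup M)) := by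
  have h1 := τ.ker.card_mul_index
  have h2 := NegS.card_inf_mul_relIndex τ.range τ.ker
  rw [index_ker] at h1
  rw [relIndex_ker] at h2
  rw [← h1, ← h2]
  refine Nat.mul_le_mul_left _ (Nat.mul_le_mul_left _ (card_le_of_le ?_))
  rintro _ ⟨_, ⟨v, rfl⟩, rfl⟩
  exact ⟨⟨_, rfl⟩, h v⟩

/-- an element of order three with few fixed points -/
theorem jordan [Finite T] {V : Subgroup T} (h : EA V) {g : T} (hg : g ^ 3 = 1) (hn : ∀ v ∈ V, g * v * g⁻¹ ∈ V)
    (hV : 243 ≤ Nat.card V) (hK : Nat.card (V ⊓ centralizer ({g} : Set T) : Subgroup T) ≤ 9) :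
    7 ≤ Nat.card (V ⊓ centralizer ({g} : Set T) : Subgroup T) ∧
      ∀ c ∈ V ⊓ centralizer ({g} : Set T), ∃ v : T, v * g * v⁻¹ = c * g := by
  letI : CommGroup V := { (inferInstance : Group V) with mul_comm := fun a b => Subtype.ext (h.comm a a.2 b b.2) }
  let σ : V →* V :=
    { toFun := fun v => ⟨g * v * g⁻¹, hn v v.2⟩
      map_one' := Subtype.ext (by simp)
      map_mul' := fun a b => Subtype.ext (by simp) }
  have hσ : ∀ v, σ (σ (σ v)) = v := fun v => Subtype.ext (by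
    show g * (g * (g * v * g⁻¹) * g⁻¹) * g⁻¹ = v
    calc g * (g * (g * v * g⁻¹) * g⁻¹) * g⁻¹ = g ^ 3 * v * (g ^ 3)⁻¹ := by
          rw [pow_succ, pow_two]; simp only [mul_assoc, mul_inv_rev]
      _ = v := by rw [hg]; simp)
  let τ : V →* V := MonoidHom.id V / σ
  have hτ : ∀ v, τ v = v / σ v := fun _ => rfl
  have h3 : ∀ v : V, v ^ 3 = 1 := fun v => Subtype.ext (h.pow v v.2)
  have h1 := nil_three τ fun v => by
    simp only [hτ, map_div, hσ]
    have e1 := h3 (σ v)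
    have e2 := h3 (σ (σ v))
    generalize σ (σ v) = b at e2
    generalize σ v = a at e1
    calc _ = b ^ 3 / a ^ 3 := by
          apply Additive.ofMul.injective
          simp only [ofMul_div, ofMul_pow]
          abel
      _ = 1 := by rw [e1, e2, div_one]
  have hk : τ.ker = (V ⊓ centralizer ({g} : Set T)).subgroupOf V := by
    ext v
    rw [MonoidHom.mem_ker, hτ, div_eq_one, mem_subgroupOf, mem_inf, mem_centralizer_singleton_iff, Subtype.ext_iff]
    exact ⟨fun e => ⟨v.2, eq_mul_inv_iff_mul_eq.1 e⟩, fun e => eq_mul_inv_iff_mul_eq.2 e.2⟩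
  have hc : Nat.card τ.ker = Nat.card (V ⊓ centralizer ({g} : Set T) : Subgroup T) := by
    rw [hk, Nat.card_congr (subgroupOfEquivOfLe inf_le_left).toEquiv]
  rw [← hc] at hK ⊢
  have h4 : Nat.card (τ.range ⊓ τ.ker : Subgroup V) ≤ Nat.card τ.ker := card_le_of_le inf_le_right
  refine ⟨?_, fun c hc' => ?_⟩
  · by_contra h5
    have := h1.trans (Nat.mul_le_mul (show _ ≤ 6 by omega) (Nat.mul_le_mul (show _ ≤ 6 by omega) (show _ ≤ 6 by omega)))
    omega
  · by_cases h5 : (⟨c, hc'.1⟩ : V) ∈ τ.range ⊓ τ.ker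
    · obtain ⟨v, hv⟩ := h5.1
      refine ⟨v, ?_⟩
      have e : (v : T) / (g * v * g⁻¹) = c := congrArg Subtype.val hv
      rw [← e, div_eq_mul_inv]
      group
    · have h6 := Two.two_mul_card_le (inf_le_right : τ.range ⊓ τ.ker ≤ τ.ker) (x := ⟨c, hc'.1⟩) (by rw [hk]; exact hc') h5
      have := h1.trans (Nat.mul_le_mul hK (Nat.mul_le_mul (show _ ≤ 4 by omega) (show _ ≤ 4 by omega)))
      omega

/-- two orbits -/
theorem card_le_orb [Finite T] {A : Subgroup T} {X Y : Set T} {x y : T} (hX : ∀ a ∈ A, a * x * a⁻¹ ∈ X)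
    (hY : ∀ a ∈ A, a * y * a⁻¹ ∈ Y) : Nat.card A ≤ X.ncard * Y.ncard *
      Nat.card (centralizer ({x} : Set T) ⊓ centralizer ({y} : Set T) : Subgroup T) := by
  rw [mul_assoc]
  refine (NegS.card_le_of_conj hX).trans (Nat.mul_le_mul_left _ ?_)
  exact (NegS.card_le_of_conj (A := A ⊓ centralizer ({x} : Set T)) fun a ha => hY a ha.1).trans
    (Nat.mul_le_mul_left _ (card_le_of_le fun a ha => ⟨ha.1.2, ha.2⟩))

/-- double counting over the non-trivial elements of `V` -/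
theorem cnt [Finite T] {V : Subgroup T} {X : Set T} (R : T → T → Prop) {m f : ℕ}
    (h1 : ∀ t ∈ X, m ≤ {v | v ∈ (V : Set T) \ {1} ∧ R v t}.ncard)
    (h2 : ∀ v ∈ V, v ≠ 1 → {t | t ∈ X ∧ R v t}.ncard ≤ f) : X.ncard * m ≤ (Nat.card V - 1) * f := by
  have := Two.dc R (X := (V : Set T) \ {1}) (Ob := X) (Set.toFinite _) (Set.toFinite _) h1 fun v hv => h2 v hv.1 hv.2
  rwa [← NegS.ncard_diff_one V, Nat.add_sub_cancel]

theorem cnt_two [Finite T] {V : Subgroup T} (h : EA V) {X : Set T} (R : T → T → Prop) {f : ℕ}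
    (h1 : ∀ t ∈ X, ∃ v ∈ V, v ≠ 1 ∧ R v t ∧ R v⁻¹ t)
    (h2 : ∀ v ∈ V, v ≠ 1 → {t | t ∈ X ∧ R v t}.ncard ≤ f) : X.ncard * 2 ≤ (Nat.card V - 1) * f := by
  refine cnt R (fun t ht => ?_) h2
  obtain ⟨v, hv, h3, h4, h5⟩ := h1 t ht
  exact (Set.one_lt_ncard_iff (Set.toFinite _)).2 ⟨v, v⁻¹, ⟨⟨hv, h3⟩, h4⟩, ⟨⟨V.inv_mem hv, inv_ne_one.2 h3⟩, h5⟩,
    ne_inv (h.pow v hv) h3⟩

theorem cent_inv (x : T) : centralizer ({x⁻¹} : Set T) = centralizer ({x} : Set T) := by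
  ext g
  rw [mem_centralizer_singleton_iff, mem_centralizer_singleton_iff]
  exact (Commute.inv_right_iff (a := g) (b := x))

theorem comm_inv {t v : T} (h : t * v = v * t ∨ t * v = v⁻¹ * t) : t * v⁻¹ = v⁻¹ * t ∨ t * v⁻¹ = v⁻¹⁻¹ * t := by
  rcases h with h | h
  · exact Or.inl (show Commute t v from h).inv_right.eq
  · right
    calc t * v⁻¹ = v * (v⁻¹ * t) * v⁻¹ := by group
      _ = v⁻¹⁻¹ * t := by rw [← h]; group

end Cfsg.Agent.SP.Mon.L3B
end
end
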